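import Mathlib
import Cfsg.Agent.Lib.Helper87.NRStmt
import Cfsg.Agent.H85.Sat
import Cfsg.Agent.H85.Aut
import Cfsg.Agent.H85.Invariant2
import Cfsg.Agent.Lib.Helper87.FSSat

set_option autoImplicit false

/-! Piece PP of S5142: for `E`, `D` weakly normal in `F` over the same `T`, the elements of
`p`-power order of `Aut_E(Q)` lie in `Aut_D(Q)`. -/

namespace Cfsg.Agent.Lib.Helper89.NRPP

open Cfsg Cfsg.FusionSystem

universe u

/-- Transport of a map of the system along an equality of the sources. -/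
theorem hom_of_eq {Ω : Type*} [Group Ω] {T : Subgroup Ω} (D : FusionSystem T) {A B : Subgroup Ω}
    (h : A = B) (χ : A →* Ω) (hχ : χ ∈ D.Hom A) (ψ : B →* Ω)
    (hψ : ∀ (x : B) (hx : (x : Ω) ∈ A), ψ x = χ ⟨x, hx⟩) : ψ ∈ D.Hom B := by
  subst h
  have e : ψ = χ := by
    ext x
    exact hψ x x.2
  rw [e]; exact hχ

/-- Under strong invariance, the `F`-conjugate of an automorphism of `D` is an automorphism of
`D`. -/
theorem transport {Ω : Type*} [Group Ω] {S T : Subgroup Ω} (D : FusionSystem T)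
    (F : FusionSystem S) (hSI : H85.StrongInv D F) {P P' : Subgroup Ω} (hP : P ≤ T)
    (hP' : P' ≤ T) (e : P ≃* P') (he : H85.IsIso F e) (a : MulAut P) (ha : a ∈ D.autGroup P) :
    MulAut.congr e a ∈ D.autGroup P' := by
  rw [H85.mem_autGroup_iff D hP']
  have hφ := (H85.mem_autGroup_iff D hP a).mp ha
  obtain ⟨χ, hχ, hχx⟩ := hSI P P le_rfl hP (P.subtype.comp a.toMonoidHom) hφ
    (fun x => (a x).2) (P'.subtype.comp e.toMonoidHom) he
  have hmap : (P.subgroupOf P).map (P'.subtype.comp e.toMonoidHom) = P' := by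
    ext y
    constructor
    · rintro ⟨x, -, rfl⟩
      exact (e x).2
    · intro hy
      refine ⟨e.symm ⟨y, hy⟩, ?_, ?_⟩
      · exact Subgroup.mem_subgroupOf.mpr (e.symm ⟨y, hy⟩).2
      · show ((e (e.symm ⟨y, hy⟩) : P') : Ω) = y
        rw [e.apply_symm_apply]
  refine hom_of_eq D hmap χ hχ _ ?_
  intro y hy
  have hy' : (P'.subtype.comp e.toMonoidHom) (Subgroup.inclusion (le_refl P) (e.symm y)) ∈
      (P.subgroupOf P).map (P'.subtype.comp e.toMonoidHom) := by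
    have h0 : (P'.subtype.comp e.toMonoidHom) (Subgroup.inclusion (le_refl P) (e.symm y)) =
        (y : Ω) := by
      show ((e (e.symm y) : P') : Ω) = y
      rw [e.apply_symm_apply]
    rw [h0]; exact hy
  have h1 := hχx (e.symm y) hy'
  have e1 : (⟨(y : Ω), hy⟩ : ↥((P.subgroupOf P).map (P'.subtype.comp e.toMonoidHom))) =
      ⟨(P'.subtype.comp e.toMonoidHom) (Subgroup.inclusion (le_refl P) (e.symm y)), hy'⟩ := by
    apply Subtype.ext
    show (y : Ω) = ((e (e.symm y) : P') : Ω)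
    rw [e.apply_symm_apply]
  rw [e1, h1]
  rfl

theorem main : Cfsg.Agent.Lib.Helper87.NRStmt.PPIn.{u} := by
  intro Ω _ S _ p _ hS F hF T E D hE hD Q hQT
  have hTS : T ≤ S := hD.2.2.2.1.1
  have : Finite T := H85.finite_of_le hTS
  have hSI : H85.StrongInv D F :=
    (H85.invariant_iff_strongInv p hS F hF D hD.2.2.1 hD.2.2.2.1).mp hD.2.2
  rw [Subgroup.map_le_iff_le_comap, Subgroup.closure_le]
  rintro a ⟨k, hk⟩
  show ((a : MulAut Q)) ∈ D.autGroup Q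
  -- a fully automized conjugate of `Q` in `E`
  obtain ⟨ρ, hρ, hfa, -⟩ := Cfsg.Agent.Lib.Helper87.FSSat.exists_far E hE.1 hQT
  obtain ⟨Q1, hQ1⟩ : ∃ Q1, ρ.range = Q1 := ⟨_, rfl⟩
  rw [hQ1] at hfa
  have he₁E : H85.IsIso E (H85.isoOf E hρ hQ1) := H85.isIso_isoOf E hρ hQ1
  obtain ⟨e₁, he₁⟩ : ∃ e₁ : Q ≃* Q1, e₁ = H85.isoOf E hρ hQ1 := ⟨_, rfl⟩
  rw [← he₁] at he₁E
  have he₁F : H85.IsIso F e₁ := hE.2.2.1 Q he₁E
  have hQ1T : Q1 ≤ T := hfa.1
  have ha₁ : MulAut.congr e₁ (a : MulAut Q) ∈ E.autGroup Q1 :=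
    H85.congr_mem_autGroup E he₁E a.2
  have hK : IsPGroup p (Subgroup.zpowers (MulAut.congr e₁ (a : MulAut Q))) := by
    apply IsPGroup.of_card (n := k)
    rw [Nat.card_zpowers, MulEquiv.orderOf_eq, Subgroup.orderOf_coe, hk]
  have hKle : Subgroup.zpowers (MulAut.congr e₁ (a : MulAut Q)) ≤ E.autGroup Q1 := by
    rw [Subgroup.zpowers_le]; exact ha₁
  obtain ⟨χ, hχ, hχK⟩ := Cfsg.Agent.Lib.Helper87.FSSat.exists_conj_le_autS E hfa _ hK hKle
  have h1 : χ * MulAut.congr e₁ (a : MulAut Q) * χ⁻¹ ∈ D.autGroup Q1 :=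
    H85.autInducedBy_le_autGroup D hQ1T (hχK _ (Subgroup.mem_zpowers _))
  have hχF : H85.IsIso F (χ⁻¹ : MulAut Q1) :=
    hE.2.2.1 Q1 ((H85.mem_autGroup_iff E hQ1T χ⁻¹).mp (Subgroup.inv_mem _ hχ))
  have h2 := transport D F hSI hQ1T hQ1T (χ⁻¹ : MulAut Q1) hχF _ h1
  have h3 := transport D F hSI hQ1T hQT e₁.symm (H85.isIso_symm F he₁F) _ h2
  have hfin : MulAut.congr e₁.symm (MulAut.congr (χ⁻¹ : MulAut Q1)
      (χ * MulAut.congr e₁ (a : MulAut Q) * χ⁻¹)) = (a : MulAut Q) := by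
    apply MulEquiv.ext
    intro x
    show e₁.symm (χ⁻¹ (χ (e₁ ((a : MulAut Q) (e₁.symm (χ⁻¹ (χ (e₁ x))))))))= (a : MulAut Q) x
    rw [MulAut.inv_apply_self, e₁.symm_apply_apply, MulAut.inv_apply_self, e₁.symm_apply_apply]
  rw [hfin] at h3
  exact h3

end Cfsg.Agent.Lib.Helper89.NRPP
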