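import Mathlib
import Cfsg.Agent.Lib.Helper88.WNStmt
import Cfsg.Agent.H85.Sat
import Cfsg.Agent.H85.Aut

set_option autoImplicit false

/-! Piece AUTX of S5141: every element of `Aut_F(T)`, `T` strongly closed in the saturated `F`,
extends to an element of `Aut_F(T C_S(T))`. -/

namespace Cfsg.Agent.Lib.Helper89.WNAUTX

open Cfsg Cfsg.FusionSystem

universe u

theorem main : Cfsg.Agent.Lib.Helper88.WNStmt.AutExt.{u} := by
  intro Ω _ S _ p _ hS F hF T hT α hα
  have hTS : T ≤ S := hT.1
  have hfinT : Finite T := H85.finite_of_le hTS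
  -- `T` is receptive
  obtain ⟨Q, ⟨φ, hφ, hφQ⟩, -, hrec⟩ := hF T hTS
  have hQT : Q = T := by
    have hle : Q ≤ T := by
      rw [← hφQ]
      rintro _ ⟨x, rfl⟩
      exact hT.2 T le_rfl φ hφ x
    apply Subgroup.eq_of_le_of_card_ge hle
    rw [← hφQ]
    exact (Nat.card_congr (MonoidHom.ofInjective (F.injective_of_mem hφ)).toEquiv).le
  rw [hQT] at hrec
  have hαF := (H85.mem_autGroup_iff F hTS α).mp hα
  obtain ⟨ψ, hψ, hψx⟩ := H85.receptive_extend_sup F hrec hαF (H85.range_of_iso α)
  have hCS : centralizerIn S T ≤ S := inf_le_left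
  have hle : T ⊔ centralizerIn S T ≤ S := sup_le hTS hCS
  have hfin : Finite ↥(T ⊔ centralizerIn S T) := H85.finite_of_le hle
  -- `ψ` maps `T ⊔ C` into itself
  have hval : ∀ y, ψ y ∈ T ⊔ centralizerIn S T := by
    have h1 : T.subgroupOf (T ⊔ centralizerIn S T) ⊔
        (centralizerIn S T).subgroupOf (T ⊔ centralizerIn S T) ≤
        (T ⊔ centralizerIn S T).comap ψ := by
      refine sup_le ?_ ?_
      · intro y hy
        have hy' : (y : Ω) ∈ T := Subgroup.mem_subgroupOf.mp hy
        have e : y = Subgroup.inclusion le_sup_left (⟨y, hy'⟩ : T) := Subtype.ext rfl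
        show ψ y ∈ T ⊔ centralizerIn S T
        rw [e, hψx]
        exact Subgroup.mem_sup_left (α ⟨y, hy'⟩).2
      · intro y hy
        have hy' : (y : Ω) ∈ centralizerIn S T := Subgroup.mem_subgroupOf.mp hy
        show ψ y ∈ T ⊔ centralizerIn S T
        refine Subgroup.mem_sup_right (H85.map_centralizer_mem F hψ ?_ y hy')
        intro t ht
        refine ⟨α.symm ⟨t, ht⟩, ?_⟩
        rw [hψx]
        show ((α (α.symm ⟨t, ht⟩) : T) : Ω) = t
        rw [α.apply_symm_apply]
    rw [← Subgroup.subgroupOf_sup le_sup_left le_sup_right, Subgroup.subgroupOf_self] at h1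
    intro y
    exact h1 (Subgroup.mem_top y)
  have hinj : Function.Injective (ψ.codRestrict (T ⊔ centralizerIn S T) hval) := by
    intro a b hab
    exact F.injective_of_mem hψ (congrArg Subtype.val hab)
  have hbij : Function.Bijective (ψ.codRestrict (T ⊔ centralizerIn S T) hval) :=
    ⟨hinj, Finite.injective_iff_surjective.mp hinj⟩
  refine ⟨MulEquiv.ofBijective (ψ.codRestrict (T ⊔ centralizerIn S T) hval) hbij, ?_, ?_⟩
  · rw [H85.mem_autGroup_iff F hle]
    exact H85.hom_congr F hψ (fun x => rfl)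
  · intro x
    exact hψx x

end Cfsg.Agent.Lib.Helper89.WNAUTX
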