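import Mathlib
import Cfsg.Agent.Lib.Helper88.WNStmt
import Cfsg.Agent.H85.Sat
import Cfsg.Agent.H85.Aut
import Cfsg.Agent.H85.Invariant2
import Cfsg.Agent.H85.FullyNorm
import Cfsg.Agent.Lib.Helper87.FSSat
import Cfsg.Agent.Lib.Helper89.NRPP
import Cfsg.Agent.S5077

set_option autoImplicit false

/-! Piece C1 of S5141: an automorphism of `p`-power order in `Aut_E(P)`, `P` an `E`-centric
subgroup, has a good extension to `P C_S(T)`. -/

namespace Cfsg.Agent.Lib.Helper89.WNC1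

open Cfsg Cfsg.FusionSystem

universe u

/-- For `E` invariant in `F` and `P` an `E`-centric subgroup, the image of `P` under any map of
`F` contains its centralizer in `T`. -/
theorem fcentric {Ω : Type*} [Group Ω] {S T : Subgroup Ω} (F : FusionSystem S)
    (E : FusionSystem T) (hE : E.IsInvariantIn F) (P : Subgroup Ω) (hP : E.IsCentric P)
    (ψ : P →* Ω) (hψF : ψ ∈ F.Hom P) : centralizerIn T ψ.range ≤ ψ.range := by
  obtain ⟨hPT, hcen⟩ := hP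
  obtain ⟨α, hα, φ₀, hφ₀, hfac⟩ := hE.2.2.2 P hPT ψ hψF
  have hφ₀T : ∀ x : P, φ₀ x ∈ T := (E.le_of_mem hφ₀).2
  have hc0 := hcen φ₀.range ⟨φ₀, hφ₀, rfl⟩
  intro c hc
  obtain ⟨hcT, hcc⟩ := hc
  have hcT : c ∈ T := hcT
  have hcc : c ∈ Subgroup.centralizer (ψ.range : Set Ω) := hcc
  have hαc : α (α.symm ⟨c, hcT⟩) = ⟨c, hcT⟩ := α.apply_symm_apply _
  have hc₀mem : ((α.symm ⟨c, hcT⟩ : T) : Ω) ∈ centralizerIn T φ₀.range := by
    refine ⟨(α.symm ⟨c, hcT⟩ : T).2, ?_⟩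
    show ((α.symm ⟨c, hcT⟩ : T) : Ω) ∈ Subgroup.centralizer (φ₀.range : Set Ω)
    rw [Subgroup.mem_centralizer_iff]
    rintro _ ⟨x, rfl⟩
    have h1 : ψ x * c = c * ψ x := (Subgroup.mem_centralizer_iff.1 hcc) (ψ x) ⟨x, rfl⟩
    rw [hfac x (hφ₀T x)] at h1
    have h2 : α (⟨φ₀ x, hφ₀T x⟩ * α.symm ⟨c, hcT⟩) = α (α.symm ⟨c, hcT⟩ * ⟨φ₀ x, hφ₀T x⟩) := by
      rw [map_mul, map_mul, hαc]
      exact Subtype.ext h1
    have h3 := α.injective h2
    exact congrArg Subtype.val h3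
  obtain ⟨x, hx⟩ := hc0 hc₀mem
  refine ⟨x, ?_⟩
  rw [hfac x (hφ₀T x)]
  have e : (⟨φ₀ x, hφ₀T x⟩ : T) = α.symm ⟨c, hcT⟩ := Subtype.ext hx
  rw [e, hαc]

theorem main : Cfsg.Agent.Lib.Helper88.WNStmt.PGood.{u} := by
  intro Ω _ S _ p _ hS F hF T E hE P hP γ hγ k hk
  have hsub : E.IsSubsystemOf F := hE.2.2.1
  have hT : F.StronglyClosed T := hE.2.2.2.1
  have hTS : T ≤ S := hT.1
  have hPT : P ≤ T := hP.1
  have hPS : P ≤ S := hPT.trans hTS
  have hfinT : Finite T := H85.finite_of_le hTS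
  have hpT : IsPGroup p T := hS.to_le hTS
  have hSI : H85.StrongInv E F :=
    (H85.invariant_iff_strongInv p hS F hF E hsub hT).mp hE.2.2
  have hTn : ∀ s ∈ S, ∀ t ∈ T, s * t * s⁻¹ ∈ T := by
    intro s hs t ht
    exact hT.2 T le_rfl (conjHom T s) (F.conj_mem hTS hs) ⟨t, ht⟩
  -- a fully normalized conjugate of `P`
  obtain ⟨P1, hconj, hfn⟩ := Cfsg.Agent.S5077.exists_fullyNormalized F hPS
  obtain ⟨e₁, he₁⟩ := H85.exists_isIso_of_isConj F hconj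
  have hP1T : P1 ≤ T := by
    intro y hy
    have h := hT.2 P hPT _ he₁ (e₁.symm ⟨y, hy⟩)
    have e : (P1.subtype.comp e₁.toMonoidHom) (e₁.symm ⟨y, hy⟩) = y := by
      show ((e₁ (e₁.symm ⟨y, hy⟩) : P1) : Ω) = y
      rw [e₁.apply_symm_apply]
    rwa [e] at h
  have ha₁ : MulAut.congr e₁ γ ∈ E.autGroup P1 :=
    Cfsg.Agent.Lib.Helper89.NRPP.transport E F hSI hPT hP1T e₁ he₁ γ hγ
  have hEfn : E.IsFullyNormalized P1 :=
    H85.fullyNormalized_of_subsystem hS F hF E hsub hT hP1T hfn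
  have hEfa : E.IsFullyAutomized p P1 :=
    (((Cfsg.Agent.S5077.result p hpT E).mp hE.1).1 P1 hEfn).2
  have hrec : F.IsReceptive P1 :=
    ((Cfsg.Agent.S5077.result p hS F).mp hF).2 P1
      ((((Cfsg.Agent.S5077.result p hS F).mp hF).1 P1 hfn).1)
  have hK : IsPGroup p (Subgroup.zpowers (MulAut.congr e₁ γ)) := by
    apply IsPGroup.of_card (n := k)
    rw [Nat.card_zpowers, MulEquiv.orderOf_eq, hk]
  have hKle : Subgroup.zpowers (MulAut.congr e₁ γ) ≤ E.autGroup P1 := by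
    rw [Subgroup.zpowers_le]; exact ha₁
  obtain ⟨χ, hχ, hχK⟩ := Cfsg.Agent.Lib.Helper87.FSSat.exists_conj_le_autS E hEfa _ hK hKle
  obtain ⟨t, ht, htδ⟩ :=
    (H85.mem_autInducedBy_iff T P1 _).mp (hχK _ (Subgroup.mem_zpowers _))
  have hχF : H85.IsIso F (χ : P1 ≃* P1) :=
    hsub P1 ((H85.mem_autGroup_iff E hP1T χ).mp hχ)
  obtain ⟨θ, hθdef⟩ : ∃ θ : P ≃* P1, θ = e₁.trans χ := ⟨_, rfl⟩
  have hθF : H85.IsIso F θ := by rw [hθdef]; exact H85.isIso_trans F he₁ hχF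
  have hθx : ∀ x : P, θ x = χ (e₁ x) := fun x => by rw [hθdef]; rfl
  have hkey : ∀ x : P, t * ((θ x : P1) : Ω) * t⁻¹ = ((θ (γ x) : P1) : Ω) := by
    intro x
    rw [← htδ (θ x), hθx, hθx]
    show (((χ (e₁ (γ (e₁.symm (χ⁻¹ (χ (e₁ x))))))) : P1) : Ω) = ((χ (e₁ (γ x)) : P1) : Ω)
    rw [MulAut.inv_apply_self, e₁.symm_apply_apply]
  have hkey' : ∀ y : P1, t⁻¹ * (y : Ω) * t ∈ P1 := by
    intro y
    have h := htδ ((χ * MulAut.congr e₁ γ * χ⁻¹)⁻¹ y)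
    rw [MulAut.apply_inv_self] at h
    have e : t⁻¹ * (y : Ω) * t = (((χ * MulAut.congr e₁ γ * χ⁻¹)⁻¹ y : P1) : Ω) := by
      rw [h]; group
    rw [e]; exact SetLike.coe_mem _
  -- extension of `θ` to `P C_S(P)`, restricted to `P C_S(T)`
  obtain ⟨θ', hθ', hθ'x⟩ := H85.receptive_extend_sup F hrec hθF (H85.range_of_iso θ)
  have hCle : centralizerIn S T ≤ centralizerIn S P := fun c hc =>
    ⟨hc.1, Subgroup.centralizer_le (SetLike.coe_subset_coe.mpr hPT) hc.2⟩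
  have hRle : P ⊔ centralizerIn S T ≤ P ⊔ centralizerIn S P := sup_le_sup_left hCle P
  have hθR := H85.restrict_mem F hθ' hRle
  obtain ⟨θR, hθRdef⟩ : ∃ θR : ↥(P ⊔ centralizerIn S T) →* Ω,
      θR = θ'.comp (Subgroup.inclusion hRle) := ⟨_, rfl⟩
  rw [← hθRdef] at hθR
  have hθRx : ∀ x : P, θR (Subgroup.inclusion le_sup_left x) = ((θ x : P1) : Ω) := by
    intro x
    rw [hθRdef]
    exact hθ'x x
  have hcent : ∀ c : ↥(P ⊔ centralizerIn S T), (c : Ω) ∈ centralizerIn S T →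
      θR c ∈ centralizerIn S P1 := by
    intro c hc
    rw [hθRdef]
    refine H85.map_centralizer_mem F hθ' ?_ (Subgroup.inclusion hRle c) (hCle hc)
    intro y hy
    refine ⟨θ.symm ⟨y, hy⟩, ?_⟩
    rw [hθ'x]
    show ((θ (θ.symm ⟨y, hy⟩) : P1) : Ω) = y
    rw [θ.apply_symm_apply]
  have hB : ∀ c : ↥(P ⊔ centralizerIn S T), (c : Ω) ∈ centralizerIn S T →
      ∃ x₀ : P, t * θR c * t⁻¹ = θR (c * Subgroup.inclusion le_sup_left x₀) := by
    intro c hc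
    obtain ⟨hwS, hwc⟩ := hcent c hc
    have hwc' : ∀ y ∈ P1, y * θR c = θR c * y :=
      fun y hy => Subgroup.mem_centralizer_iff.mp hwc y hy
    have hzT : (θR c)⁻¹ * t * θR c * t⁻¹ ∈ T := by
      have h1 := hTn (θR c)⁻¹ (S.inv_mem hwS) t ht
      rw [inv_inv] at h1
      exact T.mul_mem h1 (T.inv_mem ht)
    have hzc : (θR c)⁻¹ * t * θR c * t⁻¹ ∈
        Subgroup.centralizer ((P1 : Subgroup Ω) : Set Ω) := by
      rw [Subgroup.mem_centralizer_iff]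
      intro y hy
      have h1 := hwc' _ (hkey' ⟨y, hy⟩)
      have h2 := hwc' y hy
      have h3 : θR c * t⁻¹ * y = t⁻¹ * y * t * θR c * t⁻¹ := by
        rw [h1]; group
      have h4 : y * (θR c)⁻¹ = (θR c)⁻¹ * y := by
        rw [eq_inv_mul_iff_mul_eq, ← mul_assoc, ← h2, mul_inv_cancel_right]
      calc y * ((θR c)⁻¹ * t * θR c * t⁻¹) = (y * (θR c)⁻¹) * t * θR c * t⁻¹ := by group
        _ = (θR c)⁻¹ * y * t * θR c * t⁻¹ := by rw [h4]
        _ = (θR c)⁻¹ * t * (t⁻¹ * y * t * θR c * t⁻¹) := by group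
        _ = (θR c)⁻¹ * t * (θR c * t⁻¹ * y) := by rw [h3]
        _ = (θR c)⁻¹ * t * θR c * t⁻¹ * y := by group
    have hzP1 : (θR c)⁻¹ * t * θR c * t⁻¹ ∈ P1 := by
      have h := fcentric F E hE.2.2 P hP _ hθF
      rw [H85.range_of_iso θ] at h
      exact h ⟨hzT, hzc⟩
    refine ⟨θ.symm ⟨_, hzP1⟩, ?_⟩
    rw [map_mul, hθRx, θ.apply_symm_apply]
    show t * θR c * t⁻¹ = θR c * ((θR c)⁻¹ * t * θR c * t⁻¹)
    group
  -- conjugation by `t` preserves the image of `θR`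
  have hclaim : ∀ y : ↥(P ⊔ centralizerIn S T), t * θR y * t⁻¹ ∈ θR.range := by
    have h1 : P.subgroupOf (P ⊔ centralizerIn S T) ⊔
        (centralizerIn S T).subgroupOf (P ⊔ centralizerIn S T) ≤
        θR.range.comap ((MulAut.conj t).toMonoidHom.comp θR) := by
      refine sup_le ?_ ?_
      · intro y hy
        have hy' : (y : Ω) ∈ P := Subgroup.mem_subgroupOf.mp hy
        have e : y = Subgroup.inclusion le_sup_left (⟨y, hy'⟩ : P) := Subtype.ext rfl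
        show t * θR y * t⁻¹ ∈ θR.range
        rw [e, hθRx, hkey, ← hθRx]
        exact ⟨_, rfl⟩
      · intro y hy
        have hy' : (y : Ω) ∈ centralizerIn S T := Subgroup.mem_subgroupOf.mp hy
        show t * θR y * t⁻¹ ∈ θR.range
        obtain ⟨x₀, hx₀⟩ := hB y hy'
        rw [hx₀]
        exact ⟨_, rfl⟩
    rw [← Subgroup.subgroupOf_sup le_sup_left le_sup_right, Subgroup.subgroupOf_self] at h1
    intro y
    exact h1 (Subgroup.mem_top y)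
  have hR1S : θR.range ≤ S := by
    rintro _ ⟨y, rfl⟩
    exact (F.le_of_mem hθR).2 y
  have hct : conjHom θR.range t ∈ F.Hom θR.range := F.conj_mem hR1S (hTS ht)
  have hstep1 := F.comp_mem hθR hct (fun y => (⟨y, rfl⟩ : θR y ∈ θR.range))
  obtain ⟨ψinv, hψinv, hψinvx⟩ := H85.inv_mem' F hθR (le_refl θR.range)
  have hval : ∀ y : ↥(P ⊔ centralizerIn S T),
      ((conjHom θR.range t).comp (θR.codRestrict θR.range (fun y => ⟨y, rfl⟩))) y ∈
        θR.range := fun y => hclaim y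
  have hψ := F.comp_mem hstep1 hψinv hval
  refine ⟨_, hψ, ?_, ?_⟩
  · intro x
    show ψinv ⟨t * θR (Subgroup.inclusion le_sup_left x) * t⁻¹, hclaim _⟩ = ((γ x : P) : Ω)
    have eA : t * θR (Subgroup.inclusion le_sup_left x) * t⁻¹ =
        θR (Subgroup.inclusion le_sup_left (γ x)) := by
      rw [hθRx, hkey, ← hθRx]
    have e2 : (⟨t * θR (Subgroup.inclusion le_sup_left x) * t⁻¹, hclaim _⟩ : θR.range) =
        ⟨θR (Subgroup.inclusion le_sup_left (γ x)), ⟨_, rfl⟩⟩ := Subtype.ext eA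
    rw [e2]
    exact hψinvx (Subgroup.inclusion le_sup_left (γ x)) _
  · intro c hc
    obtain ⟨x₀, hx₀⟩ := hB c hc
    have e2 : (⟨t * θR c * t⁻¹, hclaim c⟩ : θR.range) =
        ⟨θR (c * Subgroup.inclusion le_sup_left x₀), ⟨_, rfl⟩⟩ := Subtype.ext hx₀
    have e3 : ψinv ⟨t * θR c * t⁻¹, hclaim c⟩ = (c : Ω) * (x₀ : Ω) := by
      rw [e2]
      exact hψinvx (c * Subgroup.inclusion le_sup_left x₀) _
    show (c : Ω)⁻¹ * ψinv ⟨t * θR c * t⁻¹, hclaim c⟩ ∈ T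
    rw [e3, inv_mul_cancel_left]
    exact hPT x₀.2

end Cfsg.Agent.Lib.Helper89.WNC1
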