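import Mathlib
import Cfsg.Agent.Lib.Helper10.SWDefs

set_option autoImplicit false

/-! Piece ISO12 of S3685: recognition of the dihedral group of order `12`. -/

namespace Cfsg.Agent.Lib.Helper89.SWISO12

universe u

theorem main : Cfsg.Agent.Lib.Helper10.SWDefs.StISO12.{u} := by
  intro K _ _ r s hK hr hs hsr hconj
  have hsinv : s⁻¹ = s := inv_eq_of_mul_eq_one_right hs
  rw [hsinv] at hconj
  have hrs : r * s = s * r⁻¹ := by
    rw [← hconj, ← mul_assoc, ← mul_assoc, hs, one_mul]
  have hpow : ∀ n : ℕ, r ^ n * s = s * (r ^ n)⁻¹ := by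
    intro n
    induction n with
    | zero => simp
    | succ n ih =>
      conv_rhs => rw [pow_succ', mul_inv_rev]
      conv_lhs => rw [pow_succ, mul_assoc, hrs, ← mul_assoc, ih, mul_assoc]
  obtain ⟨zp, hzp⟩ : ∃ zp : ZMod 6 → K, ∀ i, zp i = r ^ i.val := ⟨fun i => r ^ i.val, fun _ => rfl⟩
  have h6 : ∀ n : ℕ, r ^ (n % 6) = r ^ n := by
    intro n
    have := pow_mod_orderOf r n
    rwa [hr] at this
  have zp_add : ∀ i j : ZMod 6, zp (i + j) = zp i * zp j := by
    intro i j
    rw [hzp, hzp, hzp, ZMod.val_add, h6, pow_add]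
  have zp_sub : ∀ i j : ZMod 6, zp (j - i) = zp j * (zp i)⁻¹ := by
    intro i j
    have h := zp_add (j - i) i
    rw [sub_add_cancel] at h
    rw [h, mul_inv_cancel_right]
  have hc : ∀ i j : ZMod 6, Commute (zp i) (zp j) := by
    intro i j
    show zp i * zp j = zp j * zp i
    rw [← zp_add, ← zp_add, add_comm]
  have hzs : ∀ i : ZMod 6, zp i * s = s * (zp i)⁻¹ := by
    intro i
    rw [hzp]; exact hpow _
  have hzmem : ∀ i : ZMod 6, zp i ∈ Subgroup.zpowers r := by
    intro i
    rw [hzp]; exact Subgroup.pow_mem _ (Subgroup.mem_zpowers r) _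
  have hzinj : ∀ i j : ZMod 6, zp i = zp j → i = j := by
    intro i j h
    rw [hzp, hzp] at h
    apply ZMod.val_injective 6
    apply pow_injOn_Iio_orderOf (x := r)
    · rw [Set.mem_Iio, hr]; exact ZMod.val_lt i
    · rw [Set.mem_Iio, hr]; exact ZMod.val_lt j
    · exact h
  obtain ⟨f, hfr, hfs⟩ : ∃ f : DihedralGroup 6 → K,
      (∀ i, f (DihedralGroup.r i) = zp i) ∧ (∀ i, f (DihedralGroup.sr i) = s * zp i) :=
    ⟨fun x => match x with
      | DihedralGroup.r i => zp i
      | DihedralGroup.sr i => s * zp i, fun _ => rfl, fun _ => rfl⟩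
  have hf_mul : ∀ x y, f (x * y) = f x * f y := by
    rintro (i | i) (j | j)
    · rw [DihedralGroup.r_mul_r, hfr, hfr, hfr, zp_add]
    · rw [DihedralGroup.r_mul_sr, hfr, hfs, hfs, zp_sub]
      calc s * (zp j * (zp i)⁻¹) = s * ((zp i)⁻¹ * zp j) := by rw [((hc i j).inv_left).eq]
        _ = s * (zp i)⁻¹ * zp j := by rw [mul_assoc]
        _ = zp i * s * zp j := by rw [hzs]
        _ = zp i * (s * zp j) := by rw [mul_assoc]
    · rw [DihedralGroup.sr_mul_r, hfs, hfs, hfr, zp_add, mul_assoc]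
    · rw [DihedralGroup.sr_mul_sr, hfr, hfs, hfs, zp_sub]
      calc zp j * (zp i)⁻¹ = (zp i)⁻¹ * zp j := ((hc i j).inv_left).eq.symm
        _ = s * s * (zp i)⁻¹ * zp j := by rw [hs, one_mul]
        _ = s * (s * (zp i)⁻¹) * zp j := by rw [mul_assoc s s]
        _ = s * (zp i * s) * zp j := by rw [hzs]
        _ = s * zp i * (s * zp j) := by simp only [mul_assoc]
  have hinj : Function.Injective f := by
    rintro (i | i) (j | j) h
    · rw [hfr, hfr] at h
      rw [hzinj i j h]
    · exfalso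
      rw [hfr, hfs] at h
      apply hsr
      have : s = zp i * (zp j)⁻¹ := by rw [h, mul_inv_cancel_right]
      rw [this]
      exact Subgroup.mul_mem _ (hzmem i) (Subgroup.inv_mem _ (hzmem j))
    · exfalso
      rw [hfr, hfs] at h
      apply hsr
      have : s = zp j * (zp i)⁻¹ := by rw [← h, mul_inv_cancel_right]
      rw [this]
      exact Subgroup.mul_mem _ (hzmem j) (Subgroup.inv_mem _ (hzmem i))
    · rw [hfs, hfs] at h
      rw [hzinj i j (mul_left_cancel h)]
  have hbij : Function.Bijective f := by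
    rw [Nat.bijective_iff_injective_and_card]
    exact ⟨hinj, by rw [DihedralGroup.nat_card, hK]⟩
  exact ⟨(MulEquiv.ofBijective (MonoidHom.mk' f hf_mul) hbij).symm⟩

end Cfsg.Agent.Lib.Helper89.SWISO12
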