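import Mathlib
import Cfsg.Agent.Lib.Helper25.ACStmt

set_option autoImplicit false

namespace Cfsg.Agent.Lib.Helper89.ACNOEIGHT

open Cfsg.Agent.Lib.Helper25.ACStmt

universe u

theorem div8 (n : ℕ) (h : n ∣ 8) (hne : n ≠ 8) : n ∣ 4 := by
  have hle : n ≤ 8 := Nat.le_of_dvd (by norm_num) h
  interval_cases n <;> simp_all

theorem main (hV : VCore.{u}) (hN : NoEightHat.{u}) : NoEight.{u} := by
  intro G _ _ hsol hB hinv P₁ h8 hnab x hx
  obtain ⟨K, hKn, hKodd, huniq, V, hVn, hV8, hVnab, hV4⟩ := hV G hsol hB hinv P₁ h8 hnab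
  haveI := hKn
  have h1 := hN (G ⧸ K) huniq V hVn hV8 hVnab hV4 (QuotientGroup.mk' K x)
  apply h1
  have hdvd : orderOf (QuotientGroup.mk' K x) ∣ 8 := by
    rw [← hx]
    exact orderOf_map_dvd _ x
  by_contra hne
  have h4 : orderOf (QuotientGroup.mk' K x) ∣ 4 := div8 _ hdvd hne
  have h5 : (QuotientGroup.mk' K x) ^ 4 = 1 := orderOf_dvd_iff_pow_eq_one.mp h4
  have h6 : x ^ 4 ∈ K := by
    rw [← map_pow] at h5
    exact (QuotientGroup.eq_one_iff _).mp h5
  have h7 : orderOf (x ^ 4) = 2 := by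
    rw [orderOf_pow' x (by norm_num), hx]
    decide
  have h8' : orderOf (⟨x ^ 4, h6⟩ : K) = 2 := by
    rw [← h7]
    exact Subgroup.orderOf_mk _ _
  have h9 : 2 ∣ Nat.card K := by
    rw [← h8']
    exact orderOf_dvd_natCard _
  exact (Nat.not_even_iff_odd.mpr hKodd) (even_iff_two_dvd.mpr h9)

end Cfsg.Agent.Lib.Helper89.ACNOEIGHT
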