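import Mathlib
import Cfsg.Agent.Lib.Helper25.ACStmt

set_option autoImplicit false

namespace Cfsg.Agent.Lib.Helper89.ACQNORMAL

open Cfsg.Agent.Lib.Helper25.ACStmt

universe u

theorem div8' (n : ℕ) (h : n ∣ 8) (hne : n ≠ 8) : n ∣ 4 := by
  have hle : n ≤ 8 := Nat.le_of_dvd (by norm_num) h
  interval_cases n <;> simp_all

theorem main (hV : VCore.{u}) : QNormal.{u} := by
  intro G _ _ hsol hB hinv P₁ h8 hnab
  obtain ⟨K, hKn, hKodd, huniq, V, hVn, hV8, hVnab, hV4⟩ := hV G hsol hB hinv P₁ h8 hnab
  haveI := hKn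
  refine ⟨V.comap (QuotientGroup.mk' K), hVn.comap _, ⟨Nat.card K, hKodd, ?_⟩, ?_⟩
  · have hidx : (V.comap (QuotientGroup.mk' K)).index = V.index :=
      Subgroup.index_comap_of_surjective V (QuotientGroup.mk'_surjective K)
    have e1 : Nat.card G = Nat.card (G ⧸ K) * Nat.card K :=
      Subgroup.card_eq_card_quotient_mul_card_subgroup K
    have e2 := Subgroup.card_mul_index V
    have e3 := Subgroup.card_mul_index (V.comap (QuotientGroup.mk' K))
    have hpos : 0 < V.index := Nat.pos_of_ne_zero Subgroup.index_ne_zero_of_finite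
    rw [hidx] at e3
    rw [hV8] at e2
    have h10 : Nat.card ↥(V.comap (QuotientGroup.mk' K)) * V.index
        = (8 * Nat.card K) * V.index := by
      rw [e3, e1, ← e2]
      ring
    exact Nat.eq_of_mul_eq_mul_right hpos h10
  · intro P hP8 hPnab x hxP
    rw [Subgroup.mem_comap]
    apply hV4
    rw [← map_pow]
    have hx4 : x ^ 4 = 1 := by
      have hdvd : orderOf x ∣ 8 := by
        have h11 := orderOf_dvd_natCard (⟨x, hxP⟩ : P)
        rw [hP8, Subgroup.orderOf_mk] at h11
        exact h11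
      by_contra hne
      have h8x : orderOf x = 8 := by
        by_contra h12
        exact hne (orderOf_dvd_iff_pow_eq_one.mp (div8' _ hdvd h12))
      have hle : Subgroup.zpowers x ≤ P := by
        rw [Subgroup.zpowers_le]
        exact hxP
      have hcard : Nat.card (Subgroup.zpowers x) = 8 := by rw [Nat.card_zpowers, h8x]
      have heq : Subgroup.zpowers x = P :=
        Subgroup.eq_of_le_of_card_ge hle (by rw [hcard, hP8])
      obtain ⟨a, ha, b, hb, hab⟩ := hPnab
      rw [← heq] at ha hb
      obtain ⟨i, rfl⟩ := Subgroup.mem_zpowers_iff.mp ha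
      obtain ⟨j, rfl⟩ := Subgroup.mem_zpowers_iff.mp hb
      exact hab (zpow_mul_comm x i j)
    rw [hx4, map_one]

end Cfsg.Agent.Lib.Helper89.ACQNORMAL
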