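import Mathlib
import Cfsg.Agent.Lib.Helper25.ACStmt
import Cfsg.Agent.Lib.Helper25.ACOddStmt

set_option autoImplicit false

namespace Cfsg.Agent.Lib.Helper89.AOCOPCASE

open Cfsg.Agent.Lib.Helper25.ACStmt Cfsg.Agent.Lib.Helper25.ACOddStmt

universe u

theorem main (hS : SZLift.{u}) (hL : LiftCrit.{u}) : CopCase.{u} := by
  intro G _ _ hB M _ hcop
  refine hL G M hB ⟨id, fun A hA => ?_⟩
  have hdvd : Nat.card ↥A ∣ M.index := by
    rw [Subgroup.index_eq_card]
    exact Subgroup.card_subgroup_dvd_card A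
  exact hS G M A hA (Nat.Coprime.coprime_dvd_right hdvd hcop)

end Cfsg.Agent.Lib.Helper89.AOCOPCASE
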