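import Mathlib
import Cfsg.Agent.Lib.Helper40.GFStmt
import Cfsg.Agent.Lib.Helper8.GFZ1BStmt

set_option autoImplicit false

namespace Cfsg.Agent.Lib.Helper89.GFZ1BCONJ1

open Cfsg.Agent.Lib.Helper40.GFStmt Cfsg.Agent.Lib.Helper8.GFZ1BStmt

universe u

theorem main : Conj1.{u} := by
  intro F L _ _ _ _ c h v v₂ ψ χ A D X hD A' hA' a
  obtain ⟨e, he, hex⟩ := inSig_mulLeft c v ψ hD.psi_v a
  have hAsurj : Function.Surjective A := Finite.surjective_of_injective hD.Ainj
  have hAA' : ∀ s, A (A' s) = s := by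
    intro s
    obtain ⟨t, rfl⟩ := hAsurj s
    rw [hA']
  have hψh : ∀ x, ψ (h x) = D (ψ x) := by
    intro x
    have hx := hD.dec x
    have h2 : h x = (A (χ x) + X (ψ x)) • v + D (ψ x) • v₂ :=
      (congrArg h hx).trans (hD.act _ _)
    rw [h2, map_add, map_smul, map_smul, hD.psi_v, hD.psi_v2, smul_zero, zero_add, smul_eq_mul,
      mul_one]
  have hinv : ∀ s, h.symm (s • v) = A' s • v := by
    intro s
    rw [LinearEquiv.symm_apply_eq]
    have h3 := hD.act (A' s) 0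
    rw [zero_smul, add_zero, map_zero, map_zero, add_zero, zero_smul, add_zero, hAA'] at h3
    exact h3.symm
  refine ⟨h⁻¹ * e * h, c.M.mul_mem (c.M.mul_mem (c.M.inv_mem hD.hM) he) hD.hM, fun x => ?_⟩
  rw [LinearEquiv.mul_apply, LinearEquiv.mul_apply, hex, hψh, LinearMap.mulLeft_apply]
  show h.symm (h x + (a * D (ψ x)) • v) = _
  rw [map_add, LinearEquiv.symm_apply_apply, hinv]
  rfl

end Cfsg.Agent.Lib.Helper89.GFZ1BCONJ1
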