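import Mathlib
import Cfsg.Agent.Lib.Helper40.GFStmt
import Cfsg.Agent.Lib.Helper8.GFZ1BStmt

set_option autoImplicit false

namespace Cfsg.Agent.Lib.Helper89.GFZ1BSEMI

open Cfsg.Agent.Lib.Helper40.GFStmt Cfsg.Agent.Lib.Helper8.GFZ1BStmt

universe u

theorem main : Semi.{u} := by
  intro F L _ _ _ _ c h v v₂ ψ χ A D X hD κ ξ hA hDk hX x a
  refine ⟨A a, ?_⟩
  have hx := hD.dec x
  have h1 : a • x = (a * χ x) • v + (a * ψ x) • v₂ := by
    calc a • x = a • (χ x • v + ψ x • v₂) := congrArg (fun y => a • y) hx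
      _ = _ := by rw [smul_add, smul_smul, smul_smul]
  have h2 : h x = (A (χ x) + X (ψ x)) • v + D (ψ x) • v₂ :=
    (congrArg h hx).trans (hD.act _ _)
  rw [h1, hD.act (a * χ x) (a * ψ x), h2]
  simp only [hX, hDk, hA]
  module

end Cfsg.Agent.Lib.Helper89.GFZ1BSEMI
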