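import Mathlib
import Cfsg.Agent.Lib.Helper26.J3Stmt

/-! helper89 (third seat): piece KEX of S3366.  `K := T ⊔ ⟨d⟩` is a complement of `R`
centralizing `t`. -/

set_option autoImplicit false
universe u

namespace Cfsg.Agent.Lib.Helper89.J3KEX

open Cfsg.Agent.Lib.Helper26.J3Stmt
open scoped Pointwise

theorem main : KEX.{u} := by
  intro X _ hHyp hZ t hT T hT8 hTt hTn d hdt hdR hd3
  have : Finite X := hHyp.1
  obtain ⟨-, -, -, hR3, -, -, -⟩ := hHyp
  obtain ⟨-, hZR, -, -, hZcen⟩ := hZ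
  obtain ⟨-, -, -, hTZ⟩ := hT
  have hd1 : d ≠ 1 := by
    rintro rfl
    exact hdR (Subgroup.one_mem _)
  have hz3 : ∀ z ∈ Subgroup.zpowers d, z ^ 3 = 1 := by
    intro z hz
    obtain ⟨n, rfl⟩ := Subgroup.mem_zpowers_iff.mp hz
    rw [← zpow_natCast, ← zpow_mul, mul_comm, zpow_mul, zpow_natCast, hd3, one_zpow]
  have hzt : ∀ z ∈ Subgroup.zpowers d, z * t = t * z := by
    intro z hz
    obtain ⟨n, rfl⟩ := Subgroup.mem_zpowers_iff.mp hz
    exact (Commute.zpow_left (show Commute d t from hdt) n).eq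
  have hzT : ∀ z ∈ Subgroup.zpowers d, ∀ τ ∈ T, z * τ * z⁻¹ ∈ T :=
    fun z hz τ hτ => hTn z (hzt z hz) τ hτ
  have hnorm : Subgroup.zpowers d ≤ Subgroup.normalizer (T : Set X) := by
    intro z hz
    rw [Subgroup.mem_normalizer_iff]
    intro h
    constructor
    · intro hh
      exact hzT z hz h hh
    · intro hh
      have := hzT z⁻¹ (Subgroup.inv_mem _ hz) _ hh
      simpa [mul_assoc] using this
  have hcoe : ((T ⊔ Subgroup.zpowers d : Subgroup X) : Set X)
      = (T : Set X) * (Subgroup.zpowers d : Set X) :=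
    Subgroup.coe_mul_of_right_le_normalizer_left T (Subgroup.zpowers d) hnorm
  have hK : ∀ x ∈ T ⊔ Subgroup.zpowers d, ∃ τ ∈ T, ∃ z ∈ Subgroup.zpowers d, τ * z = x := by
    intro x hx
    have hx' : x ∈ ((T ⊔ Subgroup.zpowers d : Subgroup X) : Set X) := hx
    rw [hcoe] at hx'
    exact Set.mem_mul.mp hx'
  have hKt : ∀ k ∈ T ⊔ Subgroup.zpowers d, k * t = t * k := by
    intro k hk
    obtain ⟨τ, hτ, z, hz, rfl⟩ := hK k hk
    rw [mul_assoc, hzt z hz, ← mul_assoc, hTt τ hτ, mul_assoc]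
  have hord : orderOf d = 3 := by
    have : Fact (Nat.Prime 3) := ⟨by norm_num⟩
    exact orderOf_eq_prime hd3 hd1
  refine ⟨T ⊔ Subgroup.zpowers d, hKt, ?_, ?_⟩
  · -- K ⊓ R = ⊥
    rw [eq_bot_iff]
    intro k hk
    obtain ⟨hkK, hkR⟩ := Subgroup.mem_inf.mp hk
    rw [Subgroup.mem_bot]
    have hkt : t * k * t⁻¹ = k := by
      rw [← hKt k hkK, mul_inv_cancel_right]
    have hkk : k * k ∈ Zc X := by
      have := hTZ k hkR
      rwa [hkt] at this
    have hk3 : k ^ 3 = 1 := hR3 k hkR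
    have hkZ : k ∈ Zc X := by
      have h4 : k = (k * k) * (k * k) := by
        have : (k * k) * (k * k) = k ^ 3 * k := by simp [pow_succ, mul_assoc]
        rw [this, hk3, one_mul]
      rw [h4]
      exact Subgroup.mul_mem _ hkk hkk
    have hkc : ∀ x : X, x * k = k * x := hZcen k hkZ
    obtain ⟨τ, hτ, z, hz, hτz⟩ := hK k hkK
    have hτ3 : τ ^ 3 = 1 := by
      have hτe : τ = k * z⁻¹ := by rw [← hτz, mul_inv_cancel_right]
      have hcomm : Commute k z⁻¹ := (hkc z⁻¹).symm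
      rw [hτe, hcomm.mul_pow, hk3, inv_pow, hz3 z hz, inv_one, one_mul]
    have hτ8 : τ ^ 8 = 1 := by
      have h := pow_card_eq_one' (G := T) (x := ⟨τ, hτ⟩)
      rw [hT8] at h
      have h2 := congrArg (Subtype.val) h
      simpa using h2
    have hτ1 : τ = 1 := by
      have h9 : τ ^ 9 = 1 := by
        have : τ ^ 9 = (τ ^ 3) ^ 3 := by rw [← pow_mul]
        rw [this, hτ3, one_pow]
      have : τ ^ 9 = τ ^ 8 * τ := pow_succ τ 8
      rw [h9, hτ8, one_mul] at this
      exact this.symm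
    have hkz : k = z := by rw [← hτz, hτ1, one_mul]
    obtain ⟨n, hn⟩ := Subgroup.mem_zpowers_iff.mp hz
    by_contra hk1
    have hdn : ∀ m : ℤ, d ^ (3 * m) = 1 := by
      intro m
      rw [zpow_mul, zpow_ofNat, hd3, one_zpow]
    have hsplit : n = 3 * (n / 3) + n % 3 := (Int.mul_ediv_add_emod n 3).symm
    have hkn : k = d ^ (n % 3) := by
      rw [hkz, ← hn]
      conv_lhs => rw [hsplit]
      rw [zpow_add, hdn, one_mul]
    have hcases : n % 3 = 0 ∨ n % 3 = 1 ∨ n % 3 = 2 := by omega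
    rcases hcases with h | h | h
    · rw [h, zpow_zero] at hkn
      exact hk1 hkn
    · rw [h, zpow_one] at hkn
      exact hdR (hkn ▸ hkR)
    · rw [h] at hkn
      have hd4 : d = k * k := by
        rw [hkn]
        have : (d ^ (2 : ℤ)) * (d ^ (2 : ℤ)) = d ^ 3 * d := by
          rw [zpow_ofNat]; simp [pow_succ, mul_assoc]
        rw [this, hd3, one_mul]
      exact hdR (hd4 ▸ Subgroup.mul_mem _ hkR hkR)
  · -- card K = 24
    have h8 : 8 ∣ Nat.card (T ⊔ Subgroup.zpowers d : Subgroup X) := by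
      rw [← hT8]
      exact Subgroup.card_dvd_of_le le_sup_left
    have h3 : 3 ∣ Nat.card (T ⊔ Subgroup.zpowers d : Subgroup X) := by
      have : Nat.card (Subgroup.zpowers d) = 3 := by rw [Nat.card_zpowers, hord]
      rw [← this]
      exact Subgroup.card_dvd_of_le le_sup_right
    have h24 : 24 ∣ Nat.card (T ⊔ Subgroup.zpowers d : Subgroup X) := by
      have : Nat.Coprime 8 3 := by norm_num
      exact this.mul_dvd_of_dvd_of_dvd h8 h3
    have hle : Nat.card (T ⊔ Subgroup.zpowers d : Subgroup X) ≤ 24 := by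
      let f : T × Subgroup.zpowers d → (T ⊔ Subgroup.zpowers d : Subgroup X) :=
        fun p => ⟨(p.1 : X) * (p.2 : X),
          Subgroup.mul_mem _ (le_sup_left (a := T) p.1.2) (le_sup_right (b := Subgroup.zpowers d) p.2.2)⟩
      have hf : Function.Surjective f := by
        rintro ⟨x, hx⟩
        obtain ⟨τ, hτ, z, hz, rfl⟩ := hK x hx
        exact ⟨(⟨τ, hτ⟩, ⟨z, hz⟩), rfl⟩
      have hc := Nat.card_le_card_of_surjective f hf
      have : Nat.card (T × Subgroup.zpowers d) = 24 := by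
        rw [Nat.card_prod, hT8, Nat.card_zpowers, hord]
      rwa [this] at hc
    have hpos : 0 < Nat.card (T ⊔ Subgroup.zpowers d : Subgroup X) := Nat.card_pos
    exact Nat.le_antisymm hle (Nat.le_of_dvd hpos h24)

end Cfsg.Agent.Lib.Helper89.J3KEX
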