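import Mathlib
import Cfsg.Agent.Lib.Helper89.NCStmt
import Cfsg.Agent.S3282

/-!
# S3921: assembly of the statement from the pieces of `NCStmt`
-/

set_option autoImplicit false

namespace Cfsg.Agent.Lib.Helper89.NCAsm

open Cfsg.Agent.Lib.Helper89.NCStmt

universe u

theorem assemble
    (hEvenB : EvenB.{u}) (hHasInv : HasInv.{u}) (hInv2 : Inv2.{u}) (hCitA : CitA.{u}) (hCitB : CitB.{u})
    (hSyl : Syl.{u}) (hCase4 : Case4.{u}) (hNoSD : NoSD.{u}) (hDih : DihData.{u}) (hOne : OneClass.{u})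
    (hZSemi : ZSemi.{u}) (hZReg : ZReg.{u}) (hZZas : ZZas.{u}) (hZFin : ZFin.{u}) (hQVal : QVal.{u})
    (hArith : Arith) (hTransp : Transp.{u}) (hQ24 : Q24) (hCSplit : CSplit) (hCUni : CUni) (hCNs : CNs)
    (hCentP : CentP) (hNCOdd : NCOdd)
    {G : Type u} [Group G] [Finite G] [IsSimpleGroup G] (hna : ¬ IsMulCommutative G) :
    (∀ H : Subgroup G, ¬ IsCyclic ↥H → Subgroup.centralizer (H : Set G) ≤ H) ↔
      ∃ (F : Type) (_ : Field F) (_ : Fintype F),
        (Fintype.card F = 4 ∨ Fintype.card F = 9 ∨ ((Fintype.card F).Prime ∧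
          ∃ k : ℕ, Fintype.card F = 2 ^ k + 1 ∨ Fintype.card F = 2 ^ k - 1)) ∧
        Nonempty (G ≃* Matrix.ProjectiveSpecialLinearGroup (Fin 2) F) := by
  constructor
  · intro hNC
    have hI2 : Inv2On G := hInv2 G hna
    have hCIT : CITOn G := hCitB hCitA G hNC hI2
    have hinv : ∃ u : G, orderOf u = 2 := hHasInv hEvenB G hna hNC
    obtain ⟨t, S, ht, hS, hcase⟩ := hSyl G hNC hI2 hCIT hinv
    rcases hcase with ⟨n, hn, he⟩ | hQD | h4
    · obtain ⟨K, s, hKab, hKH, htK, hs, hsH, hsK, hH, hCK, hinvK, hTI, hKcyc, hKS, hKi, h8⟩ :=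
        hDih G t S ht hS n hn he
      have hconj := hOne G hna S K hKS hKi hKcyc
      obtain ⟨Q, D, hcard, hC, hDab, hD, hQD, hN, _⟩ :=
        Cfsg.Agent.S3282.result t ht K hKab hKH htK s hs hsH hsK hH hCK hinvK hTI hconj
      have hB : BSWData G Q D := ⟨hcard, hC, hD, hQD, hN⟩
      have hreg : RegOn G Q := hZReg hZSemi G Q D hB
      obtain ⟨hZ, hQle, hQn, hQab⟩ := hZZas G hna Q D hB h8 hreg
      have hq2 : 2 ≤ Nat.card ↥Q := by
        have : 0 < Nat.card ↥D := Nat.card_pos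
        omega
      obtain ⟨Kf, instKf, instKft, hchar, he2⟩ :=
        hZFin G (G ⧸ Subgroup.normalizer (Q : Set G)) hZ _ Q hQle hQn hQab hreg.2 (Nat.card ↥Q) hreg.1 hq2 hcard
      obtain ⟨k, hk⟩ := hQVal G hCIT Kf hchar he2
      have hpp : IsPrimePow (Fintype.card Kf) := Fintype.isPrimePow_card_of_field
      refine ⟨Kf, instKf, instKft, ?_, he2⟩
      rcases hArith _ k hpp hk with h9 | hp
      · exact Or.inr (Or.inl h9)
      · exact Or.inr (Or.inr ⟨hp, k, hk⟩)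
    · exact absurd hQD (hNoSD G hna t S ht hS)
    · obtain ⟨F, instF, instFt, hF, e⟩ := hCase4 G hna hI2 hCIT S h4
      exact ⟨F, instF, instFt, Or.inl hF, e⟩
  · rintro ⟨F, instF, instFt, hF, e⟩
    refine hTransp G _ e ?_
    have hodd_case : Odd (Fintype.card F) → (Fintype.card F = 9 ∨ ((Fintype.card F).Prime ∧
        ∃ k : ℕ, Fintype.card F = 2 ^ k + 1 ∨ Fintype.card F = 2 ^ k - 1)) →
        NC (Matrix.ProjectiveSpecialLinearGroup (Fin 2) F) := by
      intro hodd h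
      refine hNCOdd F hodd h (hCentP F hodd ?_)
      intro c hc1 hc2
      by_cases hev : ∃ (l : F) (v : Fin 2 → F), v ≠ 0 ∧ (c : Matrix (Fin 2) (Fin 2) F).mulVec v = l • v
      · obtain ⟨l, v, hv, hlv⟩ := hev
        by_cases hl : l ^ 2 = 1
        · exact Or.inr (hCUni F hodd c hc1 hc2 ⟨l, v, hv, hl, hlv⟩)
        · have h1 := hCSplit F hodd c ⟨l, v, hv, hl, hlv⟩
          exact Or.inl ⟨h1.1, Or.inl h1.2⟩
      · have h' : ∀ (l : F) (v : Fin 2 → F), v ≠ 0 →
            (c : Matrix (Fin 2) (Fin 2) F).mulVec v ≠ l • v := by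
          intro l v hv h
          exact hev ⟨l, v, hv, h⟩
        have h1 := hCNs F hodd c h'
        exact Or.inl ⟨h1.1, Or.inr h1.2⟩
    rcases hF with h4 | h9 | ⟨hp, k, hk⟩
    · exact hQ24 F (Or.inr h4)
    · exact hodd_case (by rw [h9]; decide) (Or.inl h9)
    · rcases hp.eq_two_or_odd' with h2 | hodd
      · exact hQ24 F (Or.inl h2)
      · exact hodd_case hodd (Or.inr ⟨hp, k, hk⟩)

end Cfsg.Agent.Lib.Helper89.NCAsm
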