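import Mathlib
import Cfsg.Agent.Lib.Helper89.NCStmt
import Cfsg.Agent.S0200
import Cfsg.Agent.S3224
import Cfsg.Agent.S3116

/-!
# S3921 / CITB: involution centralizers of an `NC`-group are 2-groups
-/

set_option autoImplicit false

namespace Cfsg.Agent.Lib.Helper89.NCCITB

open Cfsg.Agent.Lib.Helper89

universe u

/-- the four-group generated by two commuting involutions -/
def V4 {G : Type u} [Group G] (a b : G) (ha : a * a = 1) (hb : b * b = 1) (hc : b * a = a * b) :
    Subgroup G where
  carrier := {g | g = 1 ∨ g = a ∨ g = b ∨ g = a * b}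
  one_mem' := Or.inl rfl
  mul_mem' := by
    have ha' : ∀ z : G, a * (a * z) = z := fun z => by rw [← mul_assoc, ha, one_mul]
    have hb' : ∀ z : G, b * (b * z) = z := fun z => by rw [← mul_assoc, hb, one_mul]
    have hc' : ∀ z : G, b * (a * z) = a * (b * z) := fun z => by
      rw [← mul_assoc, hc, mul_assoc]
    rintro x y (rfl | rfl | rfl | rfl) (rfl | rfl | rfl | rfl) <;>
      simp [mul_assoc, ha, hb, hc, ha', hc']
  inv_mem' := by
    have hai : a⁻¹ = a := inv_eq_of_mul_eq_one_left ha
    have hbi : b⁻¹ = b := inv_eq_of_mul_eq_one_left hb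
    rintro x (rfl | rfl | rfl | rfl) <;> simp [hai, hbi, hc]

theorem mem_V4 {G : Type u} [Group G] {a b : G} (ha : a * a = 1) (hb : b * b = 1)
    (hc : b * a = a * b) (g : G) : g ∈ V4 a b ha hb hc ↔ g = 1 ∨ g = a ∨ g = b ∨ g = a * b :=
  Iff.rfl

theorem sq_of_mem_V4 {G : Type u} [Group G] {a b : G} (ha : a * a = 1) (hb : b * b = 1)
    (hc : b * a = a * b) (g : G) (hg : g ∈ V4 a b ha hb hc) : g * g = 1 := by
  rcases hg with rfl | rfl | rfl | rfl
  · simp
  · exact ha
  · exact hb
  · calc a * b * (a * b) = a * (b * a) * b := by group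
      _ = a * (a * b) * b := by rw [hc]
      _ = (a * a) * (b * b) := by group
      _ = 1 := by rw [ha, hb, one_mul]

theorem V4_not_cyclic {G : Type u} [Group G] {a b : G} (ha : a * a = 1) (hb : b * b = 1)
    (hc : b * a = a * b) (ha1 : a ≠ 1) (hb1 : b ≠ 1) (hab : b ≠ a) :
    ¬ IsCyclic ↥(V4 a b ha hb hc) := by
  intro hcyc
  obtain ⟨g, hg⟩ := hcyc.exists_generator
  have hg2 : g * g = 1 := Subtype.ext (sq_of_mem_V4 ha hb hc g.1 g.2)
  have key : ∀ x : ↥(V4 a b ha hb hc), x = 1 ∨ x = g := by
    intro x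
    obtain ⟨k, rfl⟩ := Subgroup.mem_zpowers_iff.mp (hg x)
    have hk : g ^ k = g ^ (k % 2) := by
      conv_lhs => rw [← Int.emod_add_mul_ediv k 2]
      rw [zpow_add, zpow_mul]
      have : g ^ (2 : ℤ) = 1 := by
        rw [zpow_two]; exact hg2
      rw [this, one_zpow, mul_one]
    rcases Int.emod_two_eq_zero_or_one k with h | h
    · left; rw [hk, h, zpow_zero]
    · right; rw [hk, h, zpow_one]
  have hamem : a ∈ V4 a b ha hb hc := Or.inr (Or.inl rfl)
  have hbmem : b ∈ V4 a b ha hb hc := Or.inr (Or.inr (Or.inl rfl))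
  rcases key ⟨a, hamem⟩ with h | h
  · exact ha1 (congrArg Subtype.val h)
  · rcases key ⟨b, hbmem⟩ with h' | h'
    · exact hb1 (congrArg Subtype.val h')
    · exact hab (congrArg Subtype.val (h'.trans h.symm))

theorem card_V4 {G : Type u} [Group G] {a b : G} (ha : a * a = 1) (hb : b * b = 1)
    (hc : b * a = a * b) (ha1 : a ≠ 1) (hb1 : b ≠ 1) (hab : b ≠ a) :
    Nat.card ↥(V4 a b ha hb hc) = 4 := by
  classical
  have hset : ((V4 a b ha hb hc : Subgroup G) : Set G) = {1, a, b, a * b} := by
    ext g
    simp only [SetLike.mem_coe, mem_V4, Set.mem_insert_iff, Set.mem_singleton_iff]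
  have h1 : Nat.card ↥(V4 a b ha hb hc) = Set.ncard ((V4 a b ha hb hc : Subgroup G) : Set G) := by
    rw [← Nat.card_coe_set_eq]; rfl
  rw [h1, hset]
  have hab1 : a * b ≠ 1 := by
    intro h
    have : b = a := by
      have h2 : a * b = a * a := by rw [h, ha]
      exact mul_left_cancel h2
    exact hab this
  have haba : a * b ≠ a := by
    intro h
    exact hb1 (by simpa using h)
  have habb : a * b ≠ b := by
    intro h
    exact ha1 (by simpa using h)
  rw [Set.ncard_insert_of_notMem, Set.ncard_insert_of_notMem, Set.ncard_insert_of_notMem,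
    Set.ncard_singleton]
  · simp only [Set.mem_singleton_iff]; exact fun h => habb h.symm
  · simp only [Set.mem_insert_iff, Set.mem_singleton_iff, not_or]
    exact ⟨fun h => hab h.symm, fun h => haba h.symm⟩
  · simp only [Set.mem_insert_iff, Set.mem_singleton_iff, not_or]
    exact ⟨fun h => ha1 h.symm, fun h => hb1 h.symm, fun h => hab1 h.symm⟩

/-- in an `NC` group, the common centralizer of two distinct commuting involutions is their
four-group -/
theorem mem_V4_of_comm {G : Type u} [Group G] (hNC : NCStmt.NC G) {a b : G} (ha : a * a = 1)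
    (hb : b * b = 1) (hc : b * a = a * b) (ha1 : a ≠ 1) (hb1 : b ≠ 1) (hab : b ≠ a) (g : G)
    (hga : g * a = a * g) (hgb : g * b = b * g) : g ∈ V4 a b ha hb hc := by
  apply hNC _ (V4_not_cyclic ha hb hc ha1 hb1 hab)
  rw [Subgroup.mem_centralizer_iff]
  intro v hv
  rcases hv with rfl | rfl | rfl | rfl
  · simp
  · exact hga.symm
  · exact hgb.symm
  · rw [mul_assoc, ← hgb, ← mul_assoc, ← hga, mul_assoc]

theorem main : NCStmt.CitB.{u} := by
  intro hCitA G _ _ hNC hI2 u hu
  have hf2 : Fact (Nat.Prime 2) := ⟨Nat.prime_two⟩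
  obtain ⟨y, hy, hyu, hyc⟩ := hI2 u hu
  have hu2 : u * u = 1 := by rw [← pow_two, ← hu, pow_orderOf_eq_one]
  have hy2 : y * y = 1 := by rw [← pow_two, ← hy, pow_orderOf_eq_one]
  have hu1 : u ≠ 1 := by
    rintro rfl
    simp at hu
  have hy1 : y ≠ 1 := by
    rintro rfl
    simp at hy
  have memC : ∀ g : G, g ∈ Subgroup.centralizer ({u} : Set G) ↔ g * u = u * g := by
    intro g
    rw [Subgroup.mem_centralizer_iff]
    simp [eq_comm]
  -- key : odd order elements of C are trivial
  have key : ∀ z : G, z * u = u * z → Odd (orderOf z) → z = 1 := by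
    intro z hzu hzodd
    suffices hzy : z * y = y * z by
      have hzV := mem_V4_of_comm hNC hu2 hy2 hyc hu1 hy1 hyu z hzu hzy
      have hz2 := sq_of_mem_V4 hu2 hy2 hyc z hzV
      have hd : orderOf z ∣ 2 := orderOf_dvd_of_pow_eq_one (by rw [pow_two]; exact hz2)
      have h1 : orderOf z = 1 := by
        rcases (Nat.dvd_prime Nat.prime_two).mp hd with h | h
        · exact h
        · rw [h] at hzodd
          exact absurd hzodd (by decide)
      exact orderOf_eq_one_iff.mp h1
    have huC : u ∈ Subgroup.centralizer ({u} : Set G) := (memC u).mpr rfl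
    have hyC : y ∈ Subgroup.centralizer ({u} : Set G) := (memC y).mpr hyc
    have hzC : z ∈ Subgroup.centralizer ({u} : Set G) := (memC z).mpr hzu
    let t : ↥(Subgroup.centralizer ({u} : Set G)) := ⟨y, hyC⟩
    have ht : orderOf t = 2 := by
      rw [← hy]
      exact (Subgroup.orderOf_coe t).symm
    obtain ⟨N, hNn, hN2, htN⟩ : ∃ N : Subgroup ↥(Subgroup.centralizer ({u} : Set G)),
        N.Normal ∧ IsPGroup 2 ↥N ∧ t ∈ N := by
      by_contra hcon
      push Not at hcon
      obtain ⟨h, hh1, hhodd, hhinv⟩ := Cfsg.Agent.S0200.result t ht hcon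
      have h1 : (h : G) ≠ 1 := fun e => hh1 (Subtype.ext e)
      have h2 : Odd (orderOf (h : G)) := by
        rw [Subgroup.orderOf_coe]
        exact hhodd
      have h3 : y * (h : G) * y⁻¹ = (h : G)⁻¹ := congrArg Subtype.val hhinv
      exact hCitA G hNC u y (h : G) hu hy hyu hyc ((memC _).mp h.2) h1 h2 h3
    let u' : ↥(Subgroup.centralizer ({u} : Set G)) := ⟨u, huC⟩
    have hu'c : ∀ g : ↥(Subgroup.centralizer ({u} : Set G)), g * u' = u' * g :=
      fun g => Subtype.ext ((memC g.1).mp g.2)
    have hZn : (Subgroup.zpowers u').Normal := by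
      refine ⟨fun n hn g => ?_⟩
      have : g * n * g⁻¹ = n := by
        obtain ⟨k, rfl⟩ := Subgroup.mem_zpowers_iff.mp hn
        have hcomm : Commute g (u' ^ k) := Commute.zpow_right (hu'c g) k
        rw [hcomm.eq, mul_inv_cancel_right]
      rw [this]
      exact hn
    have hu'ord : orderOf u' = 2 := by
      rw [← hu]
      exact (Subgroup.orderOf_coe u').symm
    have hZ2 : IsPGroup 2 ↥(Subgroup.zpowers u') := by
      apply IsPGroup.of_card (n := 1)
      rw [Nat.card_zpowers, hu'ord, pow_one]
    have hQ2 : IsPGroup 2 ↥(N ⊔ Subgroup.zpowers u') := IsPGroup.to_sup_of_normal_right hN2 hZ2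
    have hQn : (N ⊔ Subgroup.zpowers u').Normal := Subgroup.sup_normal N _
    have htQ : t ∈ N ⊔ Subgroup.zpowers u' := Subgroup.mem_sup_left htN
    have hu'Q : u' ∈ N ⊔ Subgroup.zpowers u' := Subgroup.mem_sup_right (Subgroup.mem_zpowers u')
    let y' : ↥(N ⊔ Subgroup.zpowers u') := ⟨t, htQ⟩
    have hy' : orderOf y' = 2 := by
      rw [← ht]
      exact (Subgroup.orderOf_coe y').symm
    -- the subgroup V
    have hVle : V4 u y hu2 hy2 hyc ≤
        (N ⊔ Subgroup.zpowers u').map (Subgroup.centralizer ({u} : Set G)).subtype := by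
      intro g hg
      have hu_in : u ∈ (N ⊔ Subgroup.zpowers u').map (Subgroup.centralizer ({u} : Set G)).subtype :=
        ⟨u', hu'Q, rfl⟩
      have hy_in : y ∈ (N ⊔ Subgroup.zpowers u').map (Subgroup.centralizer ({u} : Set G)).subtype :=
        ⟨t, htQ, rfl⟩
      rcases hg with rfl | rfl | rfl | rfl
      · exact Subgroup.one_mem _
      · exact hu_in
      · exact hy_in
      · exact Subgroup.mul_mem _ hu_in hy_in
    -- the centralizer of y' has order 4
    have hcardZ : Nat.card ↥(Subgroup.centralizer ({y'} : Set ↥(N ⊔ Subgroup.zpowers u'))) = 4 := by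
      have hinj1 : Function.Injective (N ⊔ Subgroup.zpowers u').subtype := Subtype.val_injective
      have hinj2 : Function.Injective (Subgroup.centralizer ({u} : Set G)).subtype :=
        Subtype.val_injective
      rw [← Subgroup.card_map_of_injective hinj1, ← Subgroup.card_map_of_injective hinj2,
        ← card_V4 hu2 hy2 hyc hu1 hy1 hyu]
      congr 1
      congr 1
      apply le_antisymm
      · rintro g ⟨c, ⟨q, hq, rfl⟩, rfl⟩
        have hq' : y' * q = q * y' := by
          exact (Subgroup.mem_centralizer_iff.mp (SetLike.mem_coe.mp hq)) y' rfl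
        have hqy : ((q : ↥(Subgroup.centralizer ({u} : Set G))) : G) * y =
            y * ((q : ↥(Subgroup.centralizer ({u} : Set G))) : G) :=
          (congrArg (fun w : ↥(N ⊔ Subgroup.zpowers u') =>
            ((w : ↥(Subgroup.centralizer ({u} : Set G))) : G)) hq').symm
        exact mem_V4_of_comm hNC hu2 hy2 hyc hu1 hy1 hyu _ ((memC _).mp q.1.2) hqy
      · intro g hg
        obtain ⟨c, hcQ, rfl⟩ := hVle hg
        refine ⟨c, ⟨⟨c, hcQ⟩, ?_, rfl⟩, rfl⟩
        refine SetLike.mem_coe.mpr (Subgroup.mem_centralizer_iff.mpr ?_)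
        intro m hm
        rw [Set.mem_singleton_iff] at hm
        subst hm
        apply Subtype.ext
        apply Subtype.ext
        change y * (c : G) = (c : G) * y
        have hcV : (c : G) = 1 ∨ (c : G) = u ∨ (c : G) = y ∨ (c : G) = u * y := hg
        rcases hcV with h | h | h | h
        · rw [h]; simp
        · rw [h]; exact hyc
        · rw [h]
        · rw [h, ← mul_assoc, hyc, mul_assoc]
    have hclass := Cfsg.Agent.S3224.result hQ2 y' hy' hcardZ
    let z' : ↥(Subgroup.centralizer ({u} : Set G)) := ⟨z, hzC⟩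
    -- the two cases
    have hcases : IsPGroup 2 (MulAut ↥(N ⊔ Subgroup.zpowers u')) ∨
        Nat.card ↥(N ⊔ Subgroup.zpowers u') = 4 := by
      rcases hclass with ⟨n, ⟨e⟩⟩ | hqd | h4
      · have hcard : Nat.card ↥(N ⊔ Subgroup.zpowers u') = 2 * n := by
          rw [Nat.card_congr e.toEquiv, DihedralGroup.nat_card]
        have h4dvd : 4 ∣ Nat.card ↥(N ⊔ Subgroup.zpowers u') := by
          rw [← hcardZ]
          exact Subgroup.card_subgroup_dvd_card _
        have hpos : 0 < Nat.card ↥(N ⊔ Subgroup.zpowers u') := Nat.card_pos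
        by_cases hn4 : 4 ≤ n
        · left
          exact Cfsg.Agent.S3116.result hQ2 (Or.inl ⟨n, hn4, ⟨e⟩⟩)
        · right
          rw [hcard] at h4dvd hpos ⊢
          have hn : n < 4 := by omega
          interval_cases n <;> omega
      · left
        exact Cfsg.Agent.S3116.result hQ2 (Or.inr hqd)
      · right
        exact h4
    rcases hcases with hAut | h4
    · -- the automorphism induced by z is trivial
      let φ : MulAut ↥(N ⊔ Subgroup.zpowers u') := MulAut.conjNormal z'
      obtain ⟨k, hk⟩ := hAut φ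
      have hφ2 : φ ^ orderOf z = 1 := by
        change (MulAut.conjNormal z') ^ orderOf z = 1
        rw [← map_pow]
        have : z' ^ orderOf z = 1 := Subtype.ext (pow_orderOf_eq_one z)
        rw [this, map_one]
      have hd1 : orderOf φ ∣ 2 ^ k := orderOf_dvd_of_pow_eq_one hk
      have hd2 : orderOf φ ∣ orderOf z := orderOf_dvd_of_pow_eq_one hφ2
      have hcop : Nat.Coprime (2 ^ k) (orderOf z) :=
        Nat.Coprime.pow_left k (Nat.coprime_two_left.mpr hzodd)
      have hφ1 : φ = 1 := orderOf_eq_one_iff.mp (Nat.eq_one_of_dvd_coprimes hcop hd1 hd2)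
      have h5 : φ y' = y' := by rw [hφ1]; rfl
      have h6 : z * y * z⁻¹ = y := by
        have := congrArg (fun w : ↥(N ⊔ Subgroup.zpowers u') =>
            ((w : ↥(Subgroup.centralizer ({u} : Set G))) : G)) h5
        simpa [φ, MulAut.conjNormal_apply] using this
      calc z * y = z * y * z⁻¹ * z := by group
        _ = y * z := by rw [h6]
    · -- Q is the four-group
      have hQV : V4 u y hu2 hy2 hyc =
          (N ⊔ Subgroup.zpowers u').map (Subgroup.centralizer ({u} : Set G)).subtype := by
        apply Subgroup.eq_of_le_of_card_ge hVle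
        rw [Subgroup.card_map_of_injective Subtype.val_injective, h4,
          card_V4 hu2 hy2 hyc hu1 hy1 hyu]
      have hw : z * y * z⁻¹ ∈ V4 u y hu2 hy2 hyc := by
        rw [hQV]
        refine ⟨z' * t * z'⁻¹, hQn.conj_mem t htQ z', rfl⟩
      have hzui : z * u * z⁻¹ = u := by rw [hzu, mul_inv_cancel_right]
      rcases hw with h | h | h | h
      · exfalso
        apply hy1
        have : y = z⁻¹ * (z * y * z⁻¹) * z := by group
        rw [this, h]
        group
      · exfalso
        apply hyu
        have : y = z⁻¹ * (z * y * z⁻¹) * z := by group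
        rw [this, h]
        have : z⁻¹ * u * z = z⁻¹ * (z * u * z⁻¹) * z := by rw [hzui]
        rw [this]
        group
      · calc z * y = z * y * z⁻¹ * z := by group
          _ = y * z := by rw [h]
      · -- z^2 commutes with y
        have h2 : z ^ 2 * y * (z ^ 2)⁻¹ = y := by
          calc z ^ 2 * y * (z ^ 2)⁻¹ = z * (z * y * z⁻¹) * z⁻¹ := by rw [pow_two]; group
            _ = z * (u * y) * z⁻¹ := by rw [h]
            _ = (z * u * z⁻¹) * (z * y * z⁻¹) := by group
            _ = u * (u * y) := by rw [hzui, h]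
            _ = y := by rw [← mul_assoc, hu2, one_mul]
        have hc2 : Commute (z ^ 2) y := by
          change z ^ 2 * y = y * z ^ 2
          calc z ^ 2 * y = z ^ 2 * y * (z ^ 2)⁻¹ * z ^ 2 := by group
            _ = y * z ^ 2 := by rw [h2]
        obtain ⟨m, hm⟩ := hzodd
        have hz : (z ^ 2) ^ (m + 1) = z := by
          rw [← pow_mul]
          have : 2 * (m + 1) = orderOf z + 1 := by omega
          rw [this, pow_succ, pow_orderOf_eq_one, one_mul]
        have := (hc2.pow_left (m + 1)).eq
        rwa [hz] at this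
  -- conclusion
  intro c
  obtain ⟨k, m, hm, hkm⟩ := Nat.exists_eq_two_pow_mul_odd (orderOf_pos c).ne'
  refine ⟨k, ?_⟩
  have hcu : ((c ^ 2 ^ k : ↥(Subgroup.centralizer ({u} : Set G))) : G) * u =
      u * ((c ^ 2 ^ k : ↥(Subgroup.centralizer ({u} : Set G))) : G) :=
    (memC _).mp (c ^ 2 ^ k).2
  have hodd : Odd (orderOf ((c ^ 2 ^ k : ↥(Subgroup.centralizer ({u} : Set G))) : G)) := by
    have hdvd : orderOf ((c ^ 2 ^ k : ↥(Subgroup.centralizer ({u} : Set G))) : G) ∣ m := by
      rw [Subgroup.orderOf_coe]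
      apply orderOf_dvd_of_pow_eq_one
      rw [← pow_mul, ← hkm, pow_orderOf_eq_one]
    exact Odd.of_dvd_nat hm hdvd
  exact Subtype.ext (key _ hcu hodd)

end Cfsg.Agent.Lib.Helper89.NCCITB
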