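import Mathlib
import Cfsg.Agent.Lib.Helper89.NCStmt
import Cfsg.Agent.Lib.Helper5.SL2Card
import Cfsg.Agent.S2507
import Cfsg.Agent.S0252

/-!
# S3921 / Q24: `PSL(2,2)` and `PSL(2,4)` are `NC`-groups
-/

set_option autoImplicit false

namespace Cfsg.Agent.Lib.Helper89.NCQ24

open Cfsg.Agent.Lib.Helper89

theorem cyclic_of_card_one {G : Type*} [Group G] (H : Subgroup G) (h : Nat.card ↥H = 1) :
    IsCyclic ↥H := by
  have : Subsingleton ↥H := (Nat.card_eq_one_iff_unique.mp h).1
  exact isCyclic_of_subsingleton

theorem cyclic_of_card_prime {G : Type*} [Group G] (H : Subgroup G) (p : ℕ) (hp : p.Prime)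
    (h : Nat.card ↥H = p) : IsCyclic ↥H := by
  have : Fact p.Prime := ⟨hp⟩
  exact isCyclic_of_prime_card h

theorem q2 (F : Type) [Field F] [Fintype F] (h2 : Fintype.card F = 2) :
    NCStmt.NC (Matrix.ProjectiveSpecialLinearGroup (Fin 2) F) := by
  intro H hH c _
  have hcardP : Nat.card (Matrix.ProjectiveSpecialLinearGroup (Fin 2) F) = 6 := by
    have h := Cfsg.Agent.Lib.Helper5.SL2Card.card_PSL_two (F := F) h2
    norm_num at h
    exact h
  have : Finite (Matrix.ProjectiveSpecialLinearGroup (Fin 2) F) :=
    Nat.finite_of_card_ne_zero (by rw [hcardP]; decide)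
  have hdvd : Nat.card ↥H ∣ 6 := hcardP ▸ Subgroup.card_subgroup_dvd_card H
  have hle : Nat.card ↥H ≤ 6 := Nat.le_of_dvd (by decide) hdvd
  have hpos : 0 < Nat.card ↥H := Nat.card_pos
  have hcases : Nat.card ↥H = 1 ∨ Nat.card ↥H = 2 ∨ Nat.card ↥H = 3 ∨ Nat.card ↥H = 6 := by
    generalize Nat.card ↥H = n at hdvd hle hpos
    interval_cases n <;> simp_all
  rcases hcases with h | h | h | h
  · exact absurd (cyclic_of_card_one H h) hH
  · exact absurd (cyclic_of_card_prime H 2 Nat.prime_two h) hH
  · exact absurd (cyclic_of_card_prime H 3 Nat.prime_three h) hH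
  · have : H = ⊤ := (Subgroup.card_eq_iff_eq_top H).mp (by rw [h, hcardP])
    rw [this]
    exact Subgroup.mem_top c

theorem q4 (F : Type) [Field F] [Fintype F] (h4 : Fintype.card F = 4) :
    NCStmt.NC (Matrix.ProjectiveSpecialLinearGroup (Fin 2) F) := by
  intro H hH c hc
  by_cases hc1 : c = 1
  · rw [hc1]
    exact H.one_mem
  have hcardP : Nat.card (Matrix.ProjectiveSpecialLinearGroup (Fin 2) F) = 60 := by
    have h := Cfsg.Agent.Lib.Helper5.SL2Card.card_PSL_two (F := F) h4
    norm_num at h
    exact h
  have : Finite (Matrix.ProjectiveSpecialLinearGroup (Fin 2) F) :=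
    Nat.finite_of_card_ne_zero (by rw [hcardP]; decide)
  -- simplicity
  obtain ⟨e⟩ := Cfsg.Agent.S0252.result h4
  have hsimple : IsSimpleGroup (Matrix.ProjectiveSpecialLinearGroup (Fin 2) F) := e.isSimpleGroup
  have hHle : H ≤ Subgroup.centralizer ({c} : Set (Matrix.ProjectiveSpecialLinearGroup (Fin 2) F)) := by
    intro h hh
    rw [Subgroup.mem_centralizer_iff]
    intro m hm
    rw [Set.mem_singleton_iff] at hm
    subst hm
    exact ((Subgroup.mem_centralizer_iff.mp hc) h hh).symm
  have hcC : c ∈ Subgroup.centralizer ({c} : Set (Matrix.ProjectiveSpecialLinearGroup (Fin 2) F)) := by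
    rw [Subgroup.mem_centralizer_iff]
    intro m hm
    rw [Set.mem_singleton_iff] at hm
    subst hm
    rfl
  have hidx : (Subgroup.centralizer
      ({c} : Set (Matrix.ProjectiveSpecialLinearGroup (Fin 2) F))).index ∈ ({1, 12, 15, 20} : Set ℕ) := by
    have h := Cfsg.Agent.S2507.result (F := F) (by rw [h4]; decide) (by rw [h4])
    have hmem : (Subgroup.centralizer
        ({c} : Set (Matrix.ProjectiveSpecialLinearGroup (Fin 2) F))).index ∈
        Set.range (fun g : (Matrix.ProjectiveSpecialLinearGroup (Fin 2) F) =>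
          (Subgroup.centralizer ({g} : Set (Matrix.ProjectiveSpecialLinearGroup (Fin 2) F))).index) :=
      ⟨c, rfl⟩
    rw [h, h4] at hmem
    norm_num at hmem
    simpa using hmem
  have hmul : Nat.card ↥(Subgroup.centralizer
      ({c} : Set (Matrix.ProjectiveSpecialLinearGroup (Fin 2) F))) *
      (Subgroup.centralizer ({c} : Set (Matrix.ProjectiveSpecialLinearGroup (Fin 2) F))).index = 60 := by
    rw [Subgroup.card_mul_index, hcardP]
  have hdvd : Nat.card ↥H ∣ Nat.card ↥(Subgroup.centralizer
      ({c} : Set (Matrix.ProjectiveSpecialLinearGroup (Fin 2) F))) := Subgroup.card_dvd_of_le hHle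
  have hpos : 0 < Nat.card ↥H := Nat.card_pos
  have hprime : ∀ p : ℕ, p.Prime → Nat.card ↥(Subgroup.centralizer
      ({c} : Set (Matrix.ProjectiveSpecialLinearGroup (Fin 2) F))) = p → False := by
    intro p hp hcp
    rw [hcp] at hdvd
    rcases (Nat.dvd_prime hp).mp hdvd with h | h
    · exact hH (cyclic_of_card_one H h)
    · exact hH (cyclic_of_card_prime H p hp h)
  simp only [Set.mem_insert_iff, Set.mem_singleton_iff] at hidx
  rcases hidx with h | h | h | h
  · -- c is central: impossible
    exfalso
    have htop : Subgroup.centralizer ({c} : Set (Matrix.ProjectiveSpecialLinearGroup (Fin 2) F)) = ⊤ :=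
      Subgroup.index_eq_one.mp h
    have hcen : c ∈ Subgroup.center (Matrix.ProjectiveSpecialLinearGroup (Fin 2) F) := by
      rw [Subgroup.mem_center_iff]
      intro g
      have hg : g ∈ Subgroup.centralizer ({c} : Set (Matrix.ProjectiveSpecialLinearGroup (Fin 2) F)) := by
        rw [htop]
        exact Subgroup.mem_top g
      exact ((Subgroup.mem_centralizer_iff.mp hg) c rfl).symm
    have hcentop : Subgroup.center (Matrix.ProjectiveSpecialLinearGroup (Fin 2) F) = ⊤ := by
      rcases (Subgroup.Normal.eq_bot_or_eq_top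
        (inferInstance : (Subgroup.center (Matrix.ProjectiveSpecialLinearGroup (Fin 2) F)).Normal))
        with h0 | h0
      · rw [h0, Subgroup.mem_bot] at hcen
        exact absurd hcen hc1
      · exact h0
    have hcomm : ∀ a b : Matrix.ProjectiveSpecialLinearGroup (Fin 2) F, a * b = b * a := by
      intro a b
      have ha : a ∈ Subgroup.center (Matrix.ProjectiveSpecialLinearGroup (Fin 2) F) := by
        rw [hcentop]
        exact Subgroup.mem_top a
      exact ((Subgroup.mem_center_iff.mp ha) b).symm
    let _ : CommGroup (Matrix.ProjectiveSpecialLinearGroup (Fin 2) F) :=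
      { (inferInstance : Group (Matrix.ProjectiveSpecialLinearGroup (Fin 2) F)) with mul_comm := hcomm }
    have hp := IsSimpleGroup.prime_card (α := Matrix.ProjectiveSpecialLinearGroup (Fin 2) F)
    rw [hcardP] at hp
    exact absurd hp (by decide)
  · exfalso
    rw [h] at hmul
    exact hprime 5 (by decide) (by omega)
  · rw [h] at hmul
    have hC4 : Nat.card ↥(Subgroup.centralizer
        ({c} : Set (Matrix.ProjectiveSpecialLinearGroup (Fin 2) F))) = 4 := by omega
    rw [hC4] at hdvd
    have hle : Nat.card ↥H ≤ 4 := Nat.le_of_dvd (by decide) hdvd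
    have hcases : Nat.card ↥H = 1 ∨ Nat.card ↥H = 2 ∨ Nat.card ↥H = 4 := by
      generalize Nat.card ↥H = n at hdvd hle hpos
      interval_cases n <;> simp_all
    rcases hcases with h' | h' | h'
    · exact absurd (cyclic_of_card_one H h') hH
    · exact absurd (cyclic_of_card_prime H 2 Nat.prime_two h') hH
    · have : H = Subgroup.centralizer ({c} : Set (Matrix.ProjectiveSpecialLinearGroup (Fin 2) F)) :=
        Subgroup.eq_of_le_of_card_ge hHle (by rw [hC4, h'])
      rw [this]
      exact hcC
  · exfalso
    rw [h] at hmul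
    exact hprime 3 (by decide) (by omega)

theorem main : NCStmt.Q24 := by
  intro F _ _ h
  rcases h with h | h
  · exact q2 F h
  · exact q4 F h

end Cfsg.Agent.Lib.Helper89.NCQ24
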