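import Mathlib
import Cfsg.Agent.Lib.Helper92.PGStmt

set_option autoImplicit false

/-! Piece CASE660 of S2490: the chief factor carrying 11 has order 660. -/

namespace Cfsg.Agent.Lib.Helper89.PGCASE660

open Cfsg.Agent.Lib.Helper92.PGStmt

universe u

theorem sylow_card_prime {G : Type u} [Group G] [Finite G] {p m : ℕ} [Fact p.Prime]
    (hN : Nat.card G = p * m) (hm : ¬ p ∣ m) (P : Sylow p G) :
    Nat.card (P : Subgroup G) = p := by
  have hp : p.Prime := Fact.out
  have hm0 : m ≠ 0 := by
    rintro rfl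
    exact hm (dvd_zero p)
  rw [Sylow.card_eq_multiplicity, hN, Nat.factorization_mul hp.ne_zero hm0]
  simp [hp.factorization_self, Nat.factorization_eq_zero_of_not_dvd hm]

theorem mem_normalizer_of_normal {G : Type u} [Group G] (H : Subgroup G) (hH : H.Normal)
    (y : G) : y ∈ Subgroup.normalizer (H : Set G) := by
  rw [Subgroup.mem_normalizer_iff]
  intro x
  constructor
  · intro hx
    exact hH.conj_mem x hx y
  · intro hx
    have := hH.conj_mem _ hx y⁻¹
    simpa [mul_assoc] using this

theorem main (hF : LemF.{u}) (hF11 : F11.{u}) (hFrat : Frat.{u}) (hCent : Cent.{u}) :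
    Case660.{u} := by
  intro G _ _ hG H K hH hK hHK hcard
  have hidx : Nat.card K * K.index = Nat.card G := Subgroup.card_mul_index K
  have h12 : Nat.card H * K.index = 12 := by
    rw [hcard, hG] at hidx
    have e : 660 * (Nat.card H * K.index) = 660 * 12 := by
      rw [← mul_assoc, hidx]
    exact Nat.eq_of_mul_eq_mul_left (by norm_num) e
  have : Fact (Nat.Prime 11) := ⟨by norm_num⟩
  have : Fact (Nat.Prime 5) := ⟨by norm_num⟩
  obtain ⟨P⟩ : Nonempty (Sylow 11 G) := inferInstance
  have hP : Nat.card (P : Subgroup G) = 11 :=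
    sylow_card_prime (m := 720) (by rw [hG]) (by norm_num) P
  obtain ⟨Q⟩ : Nonempty (Sylow 5 G) := inferInstance
  have hQ : Nat.card (Q : Subgroup G) = 5 :=
    sylow_card_prime (m := 1584) (by rw [hG]) (by norm_num) Q
  generalize hh : Nat.card H = h at h12
  generalize hi : K.index = i at h12
  have hhle : h ≤ 12 := Nat.le_of_dvd (by norm_num) (Dvd.intro _ h12)
  have hile : i ≤ 12 := Nat.le_of_dvd (by norm_num) (Dvd.intro_left _ h12)
  have h11i : ¬ 11 ∣ i := by
    intro hd
    interval_cases i <;> omega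
  have h5i : ¬ 5 ∣ i := by
    intro hd
    interval_cases i <;> omega
  have h11h : ¬ 11 ∣ h := by
    intro hd
    interval_cases h <;> omega
  have h5h : ¬ 5 ∣ h := by
    intro hd
    interval_cases h <;> omega
  have hFP : i ∣ Nat.card (Subgroup.normalizer ((P : Subgroup G) : Set G)) := by
    rw [← hi]
    exact hFrat G K hK 11 P (by rw [hi]; exact h11i)
  obtain ⟨hCP1, hCP2⟩ := hCent G 11 P hP
  have hFQ : i ∣ Nat.card (Subgroup.normalizer ((Q : Subgroup G) : Set G)) := by
    rw [← hi]
    exact hFrat G K hK 5 Q (by rw [hi]; exact h5i)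
  obtain ⟨hCQ1, hCQ2⟩ := hCent G 5 Q hQ
  have hiC : i ∣ 10 * Nat.card (Subgroup.centralizer ((P : Subgroup G) : Set G)) := by
    have := hFP.trans hCP1
    simpa using this
  have hiQ : i ∣ 4 * Nat.card (Subgroup.centralizer ((Q : Subgroup G) : Set G)) := by
    have := hFQ.trans hCQ1
    simpa using this
  generalize Nat.card (Subgroup.centralizer ((P : Subgroup G) : Set G)) = c at hiC hCP2
  generalize Nat.card (Subgroup.centralizer ((Q : Subgroup G) : Set G)) = cq at hiQ hCQ2
  refine ⟨?_, ?_, Or.inr ?_⟩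
  · -- order 22
    by_cases h2 : 2 ∣ h
    · obtain ⟨g, hg⟩ := hF11 G hG H hH (by rw [hh]; exact h11h) 2 Nat.prime_two
        (by rw [hh]; exact h2)
      exact ⟨g, by rw [hg]⟩
    · have h4 : 4 ∣ i := by
        interval_cases h <;> omega
      have h4c : 4 ∣ 10 * c := h4.trans hiC
      have h2c : 2 ∣ c := by omega
      obtain ⟨g, hg⟩ := hCP2 2 Nat.prime_two (by norm_num) h2c
      exact ⟨g, by rw [hg]⟩
  · -- order 33
    by_cases h3 : 3 ∣ h
    · obtain ⟨g, hg⟩ := hF11 G hG H hH (by rw [hh]; exact h11h) 3 Nat.prime_three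
        (by rw [hh]; exact h3)
      exact ⟨g, by rw [hg]⟩
    · have h3i : 3 ∣ i := by
        interval_cases h <;> omega
      have h3c' : 3 ∣ 10 * c := h3i.trans hiC
      have h3c : 3 ∣ c := by omega
      obtain ⟨g, hg⟩ := hCP2 3 Nat.prime_three (by norm_num) h3c
      exact ⟨g, by rw [hg]⟩
  · -- order 15
    by_cases h3 : 3 ∣ h
    · have h5G : 5 ∣ Nat.card G := by
        rw [hG]
        norm_num
      obtain ⟨y, hy⟩ := exists_prime_orderOf_dvd_card' 5 h5G
      obtain ⟨m, hm⟩ := h3
      have hm3 : ¬ 3 ∣ m := by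
        intro hd
        interval_cases h <;> omega
      obtain ⟨g, hg⟩ := hF G H y 5 3 1 m (by norm_num) (by norm_num) hy
        (mem_normalizer_of_normal H hH y) (by rw [hh]; exact h5h)
        (by rw [hh, hm]; ring) hm3 (by decide)
      exact ⟨g, by rw [hg]⟩
    · have h3i : 3 ∣ i := by
        interval_cases h <;> omega
      have h3c' : 3 ∣ 4 * cq := h3i.trans hiQ
      have h3c : 3 ∣ cq := by omega
      obtain ⟨g, hg⟩ := hCQ2 3 Nat.prime_three (by norm_num) h3c
      exact ⟨g, by rw [hg]⟩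

end Cfsg.Agent.Lib.Helper89.PGCASE660
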