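import Mathlib
import Cfsg.Agent.Lib.Helper83.S38Stmt
import Cfsg.Agent.Lib.Helper23.TypeP

/-!
# S1538 / WORD (helper89, second seat)

For type-P data `(W₁', U', W₂')` of `M` and `w ∈ W₁' W₂'` outside `W₂'`: no conjugate of `w` lies
in `M'` (orders).
-/

set_option autoImplicit false

namespace Cfsg.Agent.Lib.Helper89.S38WORD

open Cfsg.Agent.Lib.Helper83.S38Stmt

universe u

theorem main : WOrd.{u} := by
  intro G _ _ M W₁ U W₂ hC W₁' U' W₂' hP w hw hw2 g hg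
  have hcomm : ∀ a ∈ W₁', ∀ b ∈ W₂', a * b = b * a := by
    intro a ha b hb
    by_cases ha1 : a = 1
    · rw [ha1, one_mul, mul_one]
    · have h1 := hP.W₂_centralizer a ha ha1
      rw [← h1] at hb
      exact (Subgroup.mem_centralizer_iff.mp hb.2) a (Set.mem_singleton a)
  have hW2le : W₂' ≤ ⁅M, M⁆ := by
    obtain ⟨x, hx, hx1⟩ : ∃ x ∈ W₁', x ≠ 1 := by
      by_contra hcon
      push Not at hcon
      exact hP.W₁_ne ((Subgroup.eq_bot_iff_forall _).mpr hcon)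
    intro b hb
    rw [← hP.W₂_centralizer x hx hx1] at hb
    exact hb.1
  obtain ⟨hM'le, hW1le, hinf, hprod⟩ := hP.W₁_compl
  obtain ⟨w₁, hw₁, w₂, hw₂, rfl⟩ : ∃ w₁ ∈ W₁', ∃ w₂ ∈ W₂', w = w₁ * w₂ := by
    let T : Subgroup G :=
      { carrier := {x | ∃ a ∈ W₁', ∃ b ∈ W₂', x = a * b}
        one_mem' := ⟨1, W₁'.one_mem, 1, W₂'.one_mem, (mul_one 1).symm⟩
        mul_mem' := by
          rintro _ _ ⟨a, ha, b, hb, rfl⟩ ⟨a', ha', b', hb', rfl⟩
          refine ⟨a * a', W₁'.mul_mem ha ha', b * b', W₂'.mul_mem hb hb', ?_⟩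
          calc a * b * (a' * b') = a * (b * a') * b' := by group
            _ = a * (a' * b) * b' := by rw [hcomm a' ha' b hb]
            _ = a * a' * (b * b') := by group
        inv_mem' := by
          rintro _ ⟨a, ha, b, hb, rfl⟩
          refine ⟨a⁻¹, W₁'.inv_mem ha, b⁻¹, W₂'.inv_mem hb, ?_⟩
          rw [mul_inv_rev, hcomm a⁻¹ (W₁'.inv_mem ha) b⁻¹ (W₂'.inv_mem hb)] }
    have hle : W₁' ⊔ W₂' ≤ T := by
      apply sup_le
      · intro a ha
        exact ⟨a, ha, 1, W₂'.one_mem, (mul_one a).symm⟩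
      · intro b hb
        exact ⟨1, W₁'.one_mem, b, hb, (one_mul b).symm⟩
    exact hle hw
  have hw₁1 : w₁ ≠ 1 := by
    rintro rfl
    rw [one_mul] at hw2
    exact hw2 hw₂
  have hord : orderOf (g * (w₁ * w₂) * g⁻¹) = orderOf (w₁ * w₂) := by
    have h0 := orderOf_injective (MulAut.conj g).toMonoidHom (MulAut.conj g).injective (w₁ * w₂)
    simpa [MulAut.conj_apply] using h0
  have hdvd : orderOf (w₁ * w₂) ∣ Nat.card ↥⁅M, M⁆ := by
    rw [← hord, ← Subgroup.orderOf_mk _ hg]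
    exact orderOf_dvd_natCard _
  have hpow : w₁ ^ orderOf (w₁ * w₂) = 1 := by
    have h1 : (w₁ * w₂) ^ orderOf (w₁ * w₂) = 1 := pow_orderOf_eq_one _
    rw [(show Commute w₁ w₂ from hcomm w₁ hw₁ w₂ hw₂).mul_pow] at h1
    have h2 : w₁ ^ orderOf (w₁ * w₂) ∈ ⁅M, M⁆ ⊓ W₁' := by
      refine ⟨?_, W₁'.pow_mem hw₁ _⟩
      have h3 : w₁ ^ orderOf (w₁ * w₂) = (w₂ ^ orderOf (w₁ * w₂))⁻¹ :=
        eq_inv_of_mul_eq_one_left h1
      rw [h3]
      exact Subgroup.inv_mem _ (Subgroup.pow_mem _ (hW2le hw₂) _)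
    rw [hinf] at h2
    exact Subgroup.mem_bot.mp h2
  have hd1 : orderOf w₁ ∣ Nat.card ↥⁅M, M⁆ := (orderOf_dvd_of_pow_eq_one hpow).trans hdvd
  have hd2 : orderOf w₁ ∣ Nat.card W₁' := by
    rw [← Subgroup.orderOf_mk _ hw₁]
    exact orderOf_dvd_natCard _
  have hrel : W₁'.relIndex M = Nat.card ↥⁅M, M⁆ := by
    have e1 := Cfsg.Agent.Lib.Helper23.TypeP.card_of_isComplIn hP.W₁_compl
    have e2 := Subgroup.card_mul_index (W₁'.subgroupOf M)
    have e3 : Nat.card ↥(W₁'.subgroupOf M) = Nat.card W₁' :=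
      Nat.card_congr (Subgroup.subgroupOfEquivOfLe hW1le).toEquiv
    rw [e3, e1] at e2
    have hpos : 0 < Nat.card W₁' := Nat.card_pos
    unfold Subgroup.relIndex
    have h4 : Nat.card W₁' * (W₁'.subgroupOf M).index = Nat.card W₁' * Nat.card ↥⁅M, M⁆ := by
      rw [e2]
      ring
    exact Nat.eq_of_mul_eq_mul_left hpos h4
  have hcop := hP.W₁_hall
  rw [hrel] at hcop
  have h5 : orderOf w₁ = 1 := Nat.eq_one_of_dvd_coprimes hcop hd2 hd1
  exact hw₁1 (orderOf_eq_one_iff.mp h5)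

end Cfsg.Agent.Lib.Helper89.S38WORD
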