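import Mathlib
import Cfsg.Agent.Lib.Helper22.S56Stmt

/-! helper89: S1356 call (helper22), piece NILPROD. -/

set_option autoImplicit false

namespace Cfsg.Agent.Lib.Helper89.S56NILPROD

open Cfsg.Agent.Lib.Helper22.S56Stmt
open scoped commutatorElement

universe u

theorem nil_of_inj {A B : Type*} [Group A] [Group B] (f : A →* B) (hf : Function.Injective f)
    (hB : Group.IsNilpotent B) : Group.IsNilpotent A := by
  haveI := hB
  refine isNilpotent_of_ker_le_center f ?_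
  rw [(MonoidHom.ker_eq_bot_iff f).mpr hf]
  exact bot_le

theorem main : NilProd.{u} := by
  intro X _ _ H O D _ _ q _ hO hOH hDH hDO hHOD hnil hcent
  have hD : Group.IsNilpotent ↥D := by
    let f : ↥D →* ↥(H.map (QuotientGroup.mk' O)) :=
      ((QuotientGroup.mk' O).comp D.subtype).codRestrict (H.map (QuotientGroup.mk' O))
        (fun d => ⟨(d : X), hDH d.2, rfl⟩)
    refine nil_of_inj f ?_ hnil
    intro a b hab
    have h1 : (QuotientGroup.mk' O) (a : X) = (QuotientGroup.mk' O) (b : X) :=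
      congrArg Subtype.val hab
    have h2 : ((a : X))⁻¹ * (b : X) ∈ O := QuotientGroup.eq.mp h1
    have h3 : ((a : X))⁻¹ * (b : X) ∈ D ⊓ O := ⟨D.mul_mem (D.inv_mem a.2) b.2, h2⟩
    rw [hDO, Subgroup.mem_bot] at h3
    apply Subtype.ext
    exact inv_mul_eq_one.mp h3
  have hDDle : ⁅D, D⁆ ≤ D := Subgroup.commutator_le.mpr (fun a ha b hb => by
    rw [commutatorElement_def]
    exact D.mul_mem (D.mul_mem (D.mul_mem ha hb) (D.inv_mem ha)) (D.inv_mem hb))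
  have hDD : Group.IsNilpotent ↥⁅D, D⁆ :=
    nil_of_inj (Subgroup.inclusion hDDle) (Subgroup.inclusion_injective hDDle) hD
  have hON : Group.IsNilpotent ↥O := hO.isNilpotent
  let φ : ↥O × ↥⁅D, D⁆ →* X := O.subtype.noncommCoprod (⁅D, D⁆).subtype
    (fun m n => (Subgroup.mem_centralizer_iff.mp (hcent n.2)) (m : X) m.2)
  have hrange : Group.IsNilpotent ↥φ.range :=
    Group.nilpotent_of_surjective φ.rangeRestrict φ.rangeRestrict_surjective
  have hle : ⁅H, H⁆ ≤ φ.range := by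
    rw [Subgroup.commutator_le]
    intro g₁ hg₁ g₂ hg₂
    have h1 : g₁ ∈ ((O ⊔ D : Subgroup X) : Set X) := hHOD hg₁
    have h2 : g₂ ∈ ((O ⊔ D : Subgroup X) : Set X) := hHOD hg₂
    rw [Subgroup.normal_mul] at h1 h2
    obtain ⟨o₁, ho₁, d₁, hd₁, rfl⟩ := Set.mem_mul.mp h1
    obtain ⟨o₂, ho₂, d₂, hd₂, rfl⟩ := Set.mem_mul.mp h2
    have e1 : (QuotientGroup.mk' O) (o₁ * d₁) = (QuotientGroup.mk' O) d₁ := by
      rw [map_mul, show (QuotientGroup.mk' O) o₁ = 1 from (QuotientGroup.eq_one_iff o₁).mpr ho₁,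
        one_mul]
    have e2 : (QuotientGroup.mk' O) (o₂ * d₂) = (QuotientGroup.mk' O) d₂ := by
      rw [map_mul, show (QuotientGroup.mk' O) o₂ = 1 from (QuotientGroup.eq_one_iff o₂).mpr ho₂,
        one_mul]
    have e3 : (QuotientGroup.mk' O) (⁅o₁ * d₁, o₂ * d₂⁆ * ⁅d₁, d₂⁆⁻¹) = 1 := by
      rw [map_mul, map_inv, map_commutatorElement, map_commutatorElement, e1, e2, mul_inv_cancel]
    have e4 : ⁅o₁ * d₁, o₂ * d₂⁆ * ⁅d₁, d₂⁆⁻¹ ∈ O := (QuotientGroup.eq_one_iff _).mp e3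
    refine ⟨(⟨_, e4⟩, ⟨⁅d₁, d₂⁆, Subgroup.commutator_mem_commutator hd₁ hd₂⟩), ?_⟩
    show ⁅o₁ * d₁, o₂ * d₂⁆ * ⁅d₁, d₂⁆⁻¹ * ⁅d₁, d₂⁆ = _
    rw [inv_mul_cancel_right]
  exact nil_of_inj (Subgroup.inclusion hle) (Subgroup.inclusion_injective hle) hrange

end Cfsg.Agent.Lib.Helper89.S56NILPROD
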