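import Mathlib
import Cfsg.Agent.Lib.Helper54.S57Stmt

/-! helper89: S1357 call (helper54), piece NILH (adapted from my `S56NILPROD`). -/

set_option autoImplicit false

namespace Cfsg.Agent.Lib.Helper89.S57NILH

open Cfsg.Agent.Lib.Helper54.S57Stmt

universe u

theorem nil_of_inj' {A B : Type*} [Group A] [Group B] (f : A →* B) (hf : Function.Injective f)
    (hB : Group.IsNilpotent B) : Group.IsNilpotent A := by
  haveI := hB
  refine Subgroup.isNilpotent_of_ker_le_center f ?_
  rw [(MonoidHom.ker_eq_bot_iff f).mpr hf]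
  exact bot_le

theorem main : NilH.{u} := by
  intro X _ _ H O D _ _ q _ hO hOH hDH hDO hHOD hnil hcent
  have hD : Group.IsNilpotent ↥D := by
    let f : ↥D →* ↥(H.map (QuotientGroup.mk' O)) :=
      ((QuotientGroup.mk' O).comp D.subtype).codRestrict (H.map (QuotientGroup.mk' O))
        (fun d => ⟨(d : X), hDH d.2, rfl⟩)
    refine nil_of_inj' f ?_ hnil
    intro a b hab
    have h1 : (QuotientGroup.mk' O) (a : X) = (QuotientGroup.mk' O) (b : X) :=
      congrArg Subtype.val hab
    have h2 : ((a : X))⁻¹ * (b : X) ∈ O := QuotientGroup.eq.mp h1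
    have h3 : ((a : X))⁻¹ * (b : X) ∈ D ⊓ O := ⟨D.mul_mem (D.inv_mem a.2) b.2, h2⟩
    rw [hDO, Subgroup.mem_bot] at h3
    apply Subtype.ext
    exact inv_mul_eq_one.mp h3
  have hON : Group.IsNilpotent ↥O := hO.isNilpotent
  let φ : ↥O × ↥D →* X := O.subtype.noncommCoprod D.subtype
    (fun m n => (Subgroup.mem_centralizer_iff.mp (hcent n.2)) (m : X) m.2)
  have hrange : Group.IsNilpotent ↥φ.range :=
    Group.nilpotent_of_surjective φ.rangeRestrict φ.rangeRestrict_surjective
  have hle : H ≤ φ.range := by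
    intro g hg
    have h1 : g ∈ ((O ⊔ D : Subgroup X) : Set X) := hHOD hg
    rw [Subgroup.normal_mul] at h1
    obtain ⟨o, ho, d, hd, rfl⟩ := Set.mem_mul.mp h1
    exact ⟨(⟨o, ho⟩, ⟨d, hd⟩), rfl⟩
  exact nil_of_inj' (Subgroup.inclusion hle) (Subgroup.inclusion_injective hle) hrange

end Cfsg.Agent.Lib.Helper89.S57NILH
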