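import Mathlib
import Cfsg.Agent.Lib.Helper93.S64Stmt
import Cfsg.Agent.Lib.Helper31.SigBasic

/-!
# S1364 / DECOMP (helper89, third seat)
-/

set_option autoImplicit false

namespace Cfsg.Agent.Lib.Helper89.S64DECOMP

open Cfsg.Agent.Lib.Helper93.S64Stmt
open scoped commutatorElement

universe u

theorem main : Decomp.{u} := by
  intro X _ _ H R Fb hHn hFn hFH hcop hcomm x hxR hxp h hh
  haveI : Fact (orderOf x).Prime := ⟨hxp⟩
  have hnd : ¬ orderOf x ∣ Nat.card Fb := by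
    intro hd
    have h1 : orderOf x ∣ Nat.card H := hd.trans (Subgroup.card_dvd_of_le hFH)
    have h2 : orderOf x ∣ Nat.card R := by
      rw [← Subgroup.orderOf_mk x hxR]
      exact orderOf_dvd_natCard _
    have h3 := Nat.eq_one_of_dvd_coprimes hcop h1 h2
    exact hxp.one_lt.ne' h3
  have hmem : h⁻¹ * (x * h * x⁻¹) ∈ Fb := by
    have h4 : ⁅h⁻¹, x⁆ ∈ ⁅H, R⁆ := Subgroup.commutator_mem_commutator (H.inv_mem hh) hxR
    have h5 : ⁅h⁻¹, x⁆ = h⁻¹ * (x * h * x⁻¹) := by
      rw [commutatorElement_def, inv_inv]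
      group
    rw [← h5]
    exact hcomm h4
  obtain ⟨n, hn, hc⟩ := Cfsg.Agent.Lib.Helper31.SigBasic.exists_commute_in_coset x
    (pow_orderOf_eq_one x) Fb hnd (fun n hn => hFn.conj_mem n hn x) h hmem
  have h6 : h = (h * n) * n⁻¹ := by group
  rw [h6]
  have hcen : h * n ∈ Subgroup.centralizer ({x} : Set X) := by
    rw [Subgroup.mem_centralizer_iff]
    intro y hy
    rw [Set.mem_singleton_iff] at hy
    rw [hy]
    exact hc
  exact Subgroup.mul_mem_sup ⟨H.mul_mem hh (hFH hn), hcen⟩ (Fb.inv_mem hn)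


end Cfsg.Agent.Lib.Helper89.S64DECOMP
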