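import Mathlib
import Cfsg.Agent.Lib.Helper93.S64Stmt

/-!
# S1364 / NC (helper89, third seat)

A cyclic normal Hall subgroup `N` of `M` meets `M''` trivially.
-/

set_option autoImplicit false

namespace Cfsg.Agent.Lib.Helper89.S64NC

open Cfsg.Agent.Lib.Helper93.S64Stmt
open scoped commutatorElement

universe u

theorem comm_central_left {D : Type u} [Group D] (z a b : D) (hz : ∀ e, z * e = e * z) :
    (z * a) * b * (z * a)⁻¹ * b⁻¹ = a * b * a⁻¹ * b⁻¹ := by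
  have h1 : (z * a) * b * (z * a)⁻¹ * b⁻¹ = z * (a * b * a⁻¹) * z⁻¹ * b⁻¹ := by group
  rw [h1, hz (a * b * a⁻¹)]
  group

theorem comm_central_right {D : Type u} [Group D] (z a b : D) (hz : ∀ e, z * e = e * z) :
    a * (z * b) * a⁻¹ * (z * b)⁻¹ = a * b * a⁻¹ * b⁻¹ := by
  have h1 : a * (z * b) * a⁻¹ * (z * b)⁻¹ = a * (z * (b * a⁻¹ * b⁻¹)) * z⁻¹ := by group
  rw [h1, hz (b * a⁻¹ * b⁻¹)]
  group

theorem main : NC.{u} := by
  intro M _ _ N hNn hNc hcop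
  haveI := hNn
  haveI := hNc
  have hcommAut : ∀ φ ψ : MulAut ↥N, φ * ψ = ψ * φ := by
    intro φ ψ
    obtain ⟨i, hi⟩ := MonoidHom.map_cyclic φ.toMonoidHom
    obtain ⟨j, hj⟩ := MonoidHom.map_cyclic ψ.toMonoidHom
    have hi' : ∀ g, φ g = g ^ i := hi
    have hj' : ∀ g, ψ g = g ^ j := hj
    apply MulEquiv.ext
    intro g
    rw [MulAut.mul_apply, MulAut.mul_apply, hi', hj', hj', hi', ← zpow_mul, ← zpow_mul,
      mul_comm j i]
  have hcen : ∀ d ∈ ⁅(⊤ : Subgroup M), (⊤ : Subgroup M)⁆, ∀ n ∈ N, d * n = n * d := by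
    have hle : ⁅(⊤ : Subgroup M), (⊤ : Subgroup M)⁆ ≤ (MulAut.conjNormal (H := N)).ker := by
      rw [Subgroup.commutator_le]
      intro a _ b _
      rw [MonoidHom.mem_ker, commutatorElement_def, map_mul, map_mul, map_mul, map_inv, map_inv,
        hcommAut (MulAut.conjNormal a) (MulAut.conjNormal b)]
      group
    intro d hd n hn
    have h1 := MonoidHom.mem_ker.mp (hle hd)
    have h2 := congrArg (fun φ : MulAut ↥N => ((φ ⟨n, hn⟩ : ↥N) : M)) h1
    simp only [MulAut.conjNormal_apply, MulAut.one_apply] at h2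
    calc d * n = d * n * d⁻¹ * d := by group
      _ = n * d := by rw [h2]
  obtain ⟨D, hD⟩ : ∃ D : Subgroup M, D = ⁅(⊤ : Subgroup M), (⊤ : Subgroup M)⁆ := ⟨_, rfl⟩
  rw [← hD] at hcen ⊢
  have hcard : Nat.card ↥(N.subgroupOf D) ∣ Nat.card ↥N := by
    rw [← Subgroup.inf_subgroupOf_right N D,
      Nat.card_congr (Subgroup.subgroupOfEquivOfLe (inf_le_right : N ⊓ D ≤ D)).toEquiv]
    exact Subgroup.card_dvd_of_le inf_le_left
  have hidx : (N.subgroupOf D).index ∣ N.index := Subgroup.relIndex_dvd_index_of_normal N D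
  have hcop₁ : (Nat.card ↥(N.subgroupOf D)).Coprime (N.subgroupOf D).index :=
    Nat.Coprime.coprime_dvd_right hidx (Nat.Coprime.coprime_dvd_left hcard hcop)
  obtain ⟨T, hT⟩ := Subgroup.exists_right_complement'_of_coprime hcop₁
  have hz : ∀ z ∈ N.subgroupOf D, ∀ e : ↥D, z * e = e * z := by
    intro z hz e
    apply Subtype.ext
    show (z : M) * (e : M) = (e : M) * (z : M)
    exact (hcen (e : M) e.2 (z : M) (Subgroup.mem_subgroupOf.mp hz)).symm
  have hDT : ⁅(⊤ : Subgroup ↥D), (⊤ : Subgroup ↥D)⁆ ≤ T := by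
    rw [Subgroup.commutator_le]
    intro x _ y _
    obtain ⟨⟨n₁, t₁⟩, h1, -⟩ := Subgroup.isComplement_iff_existsUnique.mp hT x
    obtain ⟨⟨n₂, t₂⟩, h2, -⟩ := Subgroup.isComplement_iff_existsUnique.mp hT y
    simp only at h1 h2
    rw [commutatorElement_def, ← h1, ← h2, comm_central_left _ _ _ (hz n₁ n₁.2),
      comm_central_right _ _ _ (hz n₂ n₂.2)]
    exact T.mul_mem (T.mul_mem (T.mul_mem t₁.2 t₂.2) (T.inv_mem t₁.2)) (T.inv_mem t₂.2)
  rw [eq_bot_iff]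
  rintro g ⟨hgN, hgD⟩
  have hmap : ⁅D, D⁆ = (⁅(⊤ : Subgroup ↥D), (⊤ : Subgroup ↥D)⁆).map D.subtype := by
    rw [Subgroup.map_commutator, ← MonoidHom.range_eq_map, Subgroup.range_subtype]
  have hgD' : g ∈ (⁅(⊤ : Subgroup ↥D), (⊤ : Subgroup ↥D)⁆).map D.subtype := by
    rw [← hmap]
    exact hgD
  obtain ⟨g', hg', rfl⟩ := hgD'
  have h3 : g' ∈ N.subgroupOf D ⊓ T := ⟨Subgroup.mem_subgroupOf.mpr hgN, hDT hg'⟩
  rw [disjoint_iff.mp hT.disjoint, Subgroup.mem_bot] at h3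
  rw [Subgroup.mem_bot, h3]
  rfl

end Cfsg.Agent.Lib.Helper89.S64NC
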