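import Mathlib
import Cfsg.Agent.Lib.Helper45.S9Stmt
import Cfsg.Agent.Lib.Helper1.S9Aff

set_option autoImplicit false

/-! S3590 piece AP4 (second seat): the 4-cycle of `H²` with the translation `(1,0,0,0)`. -/

namespace Cfsg.Agent.Lib.Helper89.S9AP4

open Cfsg.Agent.Lib.Helper45.S9Stmt Cfsg.Agent.Lib.Helper1.S9Aff

universe u

/-- the 4-cycle `inl 0 → inr 1 → inr 0 → inl 1 → inl 0` -/
def sig : Fin 2 ⊕ Fin 2 → Fin 2 ⊕ Fin 2 :=
  Sum.elim (fun i : Fin 2 => if i = 0 then Sum.inr 1 else Sum.inl 0)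
    (fun i : Fin 2 => if i = 0 then Sum.inl 1 else Sum.inr 0)

/-- its inverse -/
def tau : Fin 2 ⊕ Fin 2 → Fin 2 ⊕ Fin 2 :=
  Sum.elim (fun i : Fin 2 => if i = 0 then Sum.inl 1 else Sum.inr 0)
    (fun i : Fin 2 => if i = 0 then Sum.inr 1 else Sum.inl 0)

/-- the 4-cycle as an equivalence -/
def sigE : Fin 2 ⊕ Fin 2 ≃ Fin 2 ⊕ Fin 2 where
  toFun := sig
  invFun := tau
  left_inv := by decide
  right_inv := by decide

theorem sig4 : ∀ j : Fin 2 ⊕ Fin 2, sig (sig (sig (sig j))) = j := by decide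

theorem main : Cfsg.Agent.Lib.Helper45.S9Stmt.AP4.{u} := by
  intro F _ _
  let X : (Fin 2 ⊕ Fin 2 → F) ≃ₗ[F] (Fin 2 ⊕ Fin 2 → F) := LinearEquiv.funCongrLeft F F sigE
  have hXa : ∀ (v : Fin 2 ⊕ Fin 2 → F) (j : Fin 2 ⊕ Fin 2), X v j = v (sig j) := fun v j => rfl
  have h10 : (1 : F) ≠ 0 := one_ne_zero
  have hiso : ∀ v, Cfsg.quadFormPlus 2 F (X v) = Cfsg.quadFormPlus 2 F v := by
    intro v
    unfold Cfsg.quadFormPlus
    rw [Fin.sum_univ_two, Fin.sum_univ_two, hXa, hXa, hXa, hXa]
    have e1 : sig (Sum.inl 0) = Sum.inr 1 := by decide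
    have e2 : sig (Sum.inr 0) = Sum.inl 1 := by decide
    have e3 : sig (Sum.inl 1) = Sum.inl 0 := by decide
    have e4 : sig (Sum.inr 1) = Sum.inr 0 := by decide
    rw [e1, e2, e3, e4]
    ring
  have hX2a : ∀ (v : Fin 2 ⊕ Fin 2 → F) (j : Fin 2 ⊕ Fin 2), (X ^ 2) v j = v (sig (sig j)) := by
    intro v j
    rw [pow_two, LinearEquiv.mul_apply, hXa, hXa]
  have hX3a : ∀ (v : Fin 2 ⊕ Fin 2 → F) (j : Fin 2 ⊕ Fin 2),
      (X ^ 3) v j = v (sig (sig (sig j))) := by
    intro v j
    rw [pow_succ, LinearEquiv.mul_apply, hX2a, hXa]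
  have h4 : X ^ (2 ^ (1 + 1)) = 1 := by
    apply LinearEquiv.ext
    intro v
    funext j
    have : (2 : ℕ) ^ (1 + 1) = 2 + 2 := by norm_num
    rw [this, pow_add, LinearEquiv.mul_apply, hX2a, hX2a, sig4]
    rfl
  have h2 : ¬ X ^ (2 ^ 1) = 1 := by
    intro h
    have h3 := congrArg (fun Y : (Fin 2 ⊕ Fin 2 → F) ≃ₗ[F] (Fin 2 ⊕ Fin 2 → F) =>
      Y (Pi.single (Sum.inl 0) 1) (Sum.inl 0)) h
    simp only [pow_one, hX2a, LinearEquiv.coe_one, id_eq, Pi.single_eq_same] at h3
    have e : sig (sig (Sum.inl 0)) = Sum.inr 0 := by decide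
    rw [e, Pi.single_apply] at h3
    simp at h3
  have ho : orderOf X = 4 := by
    have := orderOf_eq_prime_pow h2 h4
    rw [this]
    norm_num
  -- the rank of `X - 1`
  have hrank : ((Module.finrank F (LinearMap.range (X.toLinearMap - LinearMap.id)) : ℕ) : ZMod 2)
      = 1 := by
    have hr := rank_of_fixed_line X (fun _ => (1 : F)) (by
      intro h
      have := congrFun h (Sum.inl 0)
      simp at this) (by
      intro v
      constructor
      · intro hv
        have hs : ∀ j, v (sig j) = v j := by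
          intro j
          have := congrFun hv j
          rw [hXa] at this
          exact this
        have e1 : sig (Sum.inl 0) = Sum.inr 1 := by decide
        have e2 : sig (Sum.inr 1) = Sum.inr 0 := by decide
        have e3 : sig (Sum.inr 0) = Sum.inl 1 := by decide
        have a1 : v (Sum.inr 1) = v (Sum.inl 0) := by rw [← e1]; exact hs _
        have a2 : v (Sum.inr 0) = v (Sum.inl 0) := by rw [← e2, hs, a1]
        have a3 : v (Sum.inl 1) = v (Sum.inl 0) := by rw [← e3, hs, a2]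
        refine ⟨v (Sum.inl 0), ?_⟩
        funext j
        simp only [Pi.smul_apply, smul_eq_mul, mul_one]
        rcases j with j | j
        · fin_cases j
          · rfl
          · exact a3
        · fin_cases j
          · exact a2
          · exact a1
      · rintro ⟨c, rfl⟩
        funext j
        rw [hXa]
        simp)
    have hc : Fintype.card (Fin 2 ⊕ Fin 2) = 4 := by simp
    rw [hc] at hr
    have : Module.finrank F (LinearMap.range (X.toLinearMap - LinearMap.id)) = 3 := by omega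
    rw [this]
    decide
  refine ⟨X, Pi.single (Sum.inl 0) 1, hiso, ?_, hrank⟩
  have hd := affD_double X (Pi.single (Sum.inl 0) 1) (by
    rw [ho]
    intro h
    have h3 := congrFun h (Sum.inl 0)
    rw [Finset.sum_range_succ, Finset.sum_range_succ, Finset.sum_range_succ,
      Finset.sum_range_one, pow_zero, pow_one] at h3
    simp only [Pi.add_apply, LinearEquiv.coe_one, id_eq, hXa, hX2a, hX3a,
      Pi.single_eq_same, Pi.zero_apply] at h3
    have e1 : sig (Sum.inl 0) = Sum.inr 1 := by decide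
    have e2 : sig (sig (Sum.inl 0)) = Sum.inr 0 := by decide
    have e3 : sig (sig (sig (Sum.inl 0))) = Sum.inl 1 := by decide
    rw [e3, e2, e1, Pi.single_apply, Pi.single_apply, Pi.single_apply] at h3
    simp at h3)
  rw [ho] at hd
  exact hd

end Cfsg.Agent.Lib.Helper89.S9AP4
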