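import Mathlib
import Cfsg.Agent.Lib.Helper10.SWDefs

set_option autoImplicit false

/-! Piece ISO4 of S3685: a group of order `24` with a self-centralizing normal subgroup of
order `4` is `S₄`. -/

namespace Cfsg.Agent.Lib.Helper89.SWISO4

universe u

theorem main : Cfsg.Agent.Lib.Helper10.SWDefs.StISO4.{u} := by
  intro K _ _ W hK hWn hW hC
  have : Fact (Nat.Prime 3) := ⟨by norm_num⟩
  obtain ⟨P⟩ : Nonempty (Sylow 3 K) := inferInstance
  have hP3 : Nat.card (P : Subgroup K) = 3 := by
    obtain ⟨n, hn⟩ := IsPGroup.iff_card.mp P.isPGroup'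
    have h3 : 3 ∣ Nat.card (P : Subgroup K) := P.dvd_card_of_dvd_card (by rw [hK]; norm_num)
    have hdvd : Nat.card (P : Subgroup K) ∣ 24 :=
      hK ▸ Subgroup.card_subgroup_dvd_card (P : Subgroup K)
    rw [hn] at h3 hdvd ⊢
    rcases n with _ | _ | n
    · norm_num at h3
    · norm_num
    · exfalso
      have : 9 ∣ 24 := Dvd.dvd.trans ⟨3 ^ n, by ring⟩ hdvd
      norm_num at this
  have hPW : (P : Subgroup K) ⊓ W = ⊥ :=
    (Subgroup.disjoint_of_coprime_natCard (by rw [hP3, hW]; norm_num)).eq_bot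
  -- the action of `P` on `W` by conjugation
  let act : MulAction (P : Subgroup K) W :=
    MulAction.compHom W ((MulAut.conjNormal (H := W)).comp (P : Subgroup K).subtype)
  have hsm : ∀ (p : (P : Subgroup K)) (w : W), ((p • w : W) : K) = (p : K) * w * (p : K)⁻¹ :=
    fun p w => rfl
  have hmod : Nat.card W ≡ Nat.card (MulAction.fixedPoints (P : Subgroup K) W) [MOD 3] :=
    P.isPGroup'.card_modEq_card_fixedPoints W
  have hle : Nat.card (MulAction.fixedPoints (P : Subgroup K) W) ≤ Nat.card W :=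
    Nat.card_le_card_of_injective _ Subtype.val_injective
  have hne4 : Nat.card (MulAction.fixedPoints (P : Subgroup K) W) ≠ 4 := by
    intro h4
    have hall : ∀ w : W, w ∈ MulAction.fixedPoints (P : Subgroup K) W := by
      intro w
      by_contra hw
      have h' : Nat.card (MulAction.fixedPoints (P : Subgroup K) W) < Nat.card W :=
        Finite.card_subtype_lt hw
      omega
    have hPleW : (P : Subgroup K) ≤ W := by
      intro p hp
      apply hC
      intro w hw
      have h1 := hall ⟨w, hw⟩ ⟨p, hp⟩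
      have h2 : p * w * p⁻¹ = w := by
        have := congrArg Subtype.val h1
        rw [hsm] at this
        exact this
      exact mul_inv_eq_iff_eq_mul.mp h2
    have : (P : Subgroup K) = ⊥ := by rw [← hPW]; exact (inf_eq_left.mpr hPleW).symm
    rw [this, Subgroup.card_bot] at hP3
    omega
  have hc1 : Nat.card (MulAction.fixedPoints (P : Subgroup K) W) = 1 := by
    rw [hW] at hmod hle
    unfold Nat.ModEq at hmod
    omega
  have hsub : Subsingleton (MulAction.fixedPoints (P : Subgroup K) W) :=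
    (Nat.card_eq_one_iff_unique.mp hc1).1
  have hA : ∀ z ∈ W, (∀ p ∈ (P : Subgroup K), p * z = z * p) → z = 1 := by
    intro z hz hzc
    have hzf : (⟨z, hz⟩ : W) ∈ MulAction.fixedPoints (P : Subgroup K) W := by
      intro p
      apply Subtype.ext
      rw [hsm]
      show (p : K) * z * (p : K)⁻¹ = z
      rw [hzc p p.2, mul_inv_cancel_right]
    have h1f : (1 : W) ∈ MulAction.fixedPoints (P : Subgroup K) W := by
      intro p
      apply Subtype.ext
      rw [hsm]
      simp
    have := hsub.elim ⟨⟨z, hz⟩, hzf⟩ ⟨1, h1f⟩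
    have := congrArg (fun x : MulAction.fixedPoints (P : Subgroup K) W => ((x : W) : K)) this
    exact this
  have hb : ∀ x ∈ W, x ∈ Subgroup.normalizer ((P : Subgroup K) : Set K) → x = 1 := by
    intro x hxW hxN
    apply hA x hxW
    intro p hp
    have h1 : x * p * x⁻¹ * p⁻¹ ∈ (P : Subgroup K) :=
      Subgroup.mul_mem _ ((Subgroup.mem_normalizer_iff.mp hxN p).mp hp) (Subgroup.inv_mem _ hp)
    have h2 : x * p * x⁻¹ * p⁻¹ ∈ W := by
      have e : x * p * x⁻¹ * p⁻¹ = x * (p * x⁻¹ * p⁻¹) := by group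
      rw [e]
      exact W.mul_mem hxW (hWn.conj_mem _ (W.inv_mem hxW) p)
    have h3 : x * p * x⁻¹ * p⁻¹ ∈ (P : Subgroup K) ⊓ W := ⟨h1, h2⟩
    rw [hPW, Subgroup.mem_bot] at h3
    exact (mul_inv_eq_iff_eq_mul.mp (mul_inv_eq_one.mp h3)).symm
  have hker : ∀ x : K, (∀ Q : Sylow 3 K, x • Q = Q) → x = 1 := by
    intro x hx
    have hxi : ∀ Q : Sylow 3 K, x⁻¹ • Q = Q := fun Q => by
      rw [inv_smul_eq_iff]; exact (hx Q).symm
    have hy : ∀ w : K, (x * w * x⁻¹ * w⁻¹) • P = P := by
      intro w
      rw [mul_smul, mul_smul, mul_smul, hxi, smul_inv_smul, hx]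
    have hxW : x ∈ W := by
      apply hC
      intro w hw
      have h1 : x * w * x⁻¹ * w⁻¹ = 1 := by
        apply hb
        · exact W.mul_mem (hWn.conj_mem _ hw x) (W.inv_mem hw)
        · exact Sylow.smul_eq_iff_mem_normalizer.mp (hy w)
      have h2 := mul_inv_eq_iff_eq_mul.mp (mul_inv_eq_one.mp h1)
      exact h2
    exact hb x hxW (Sylow.smul_eq_iff_mem_normalizer.mp (hx P))
  have hinj : Function.Injective (MulAction.toPermHom K (Sylow 3 K)) := by
    rw [injective_iff_map_eq_one]
    intro x hx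
    apply hker
    intro Q
    have := congrArg (fun σ : Equiv.Perm (Sylow 3 K) => σ Q) hx
    simpa using this
  have hn1 : Nat.card (Sylow 3 K) ≡ 1 [MOD 3] := card_sylow_modEq_one 3 K
  have hn2 : Nat.card (Sylow 3 K) ∣ 8 := by
    have h := P.card_dvd_index
    have h8 : (P : Subgroup K).index = 8 := by
      have := (P : Subgroup K).index_mul_card
      rw [hP3, hK] at this; omega
    rwa [h8] at h
  have hn3 : 24 ≤ (Nat.card (Sylow 3 K)).factorial := by
    rw [← Nat.card_perm, ← hK]
    exact Nat.card_le_card_of_injective _ hinj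
  have hn : Nat.card (Sylow 3 K) = 4 := by
    have hle8 : Nat.card (Sylow 3 K) ≤ 8 := Nat.le_of_dvd (by norm_num) hn2
    unfold Nat.ModEq at hn1
    generalize Nat.card (Sylow 3 K) = n at hn1 hn2 hn3 hle8
    interval_cases n <;> first | rfl | omega | (exfalso; revert hn3; decide)
  have hbij : Function.Bijective (MulAction.toPermHom K (Sylow 3 K)) := by
    rw [Nat.bijective_iff_injective_and_card]
    exact ⟨hinj, by rw [Nat.card_perm, hn, hK]; rfl⟩
  exact ⟨(MulEquiv.ofBijective (MulAction.toPermHom K (Sylow 3 K)) hbij).trans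
    (Finite.equivFinOfCardEq hn).permCongrHom⟩

end Cfsg.Agent.Lib.Helper89.SWISO4
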