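import Mathlib
import Cfsg.Agent.Lib.Helper41.TMStmt

/-! helper89 (second seat): piece CNTID of S5987 (minus-form port of my S5973 piece): the count of totally singular `m`-spaces of the
minus-type form from the frame fibration and the frame extension count. -/

set_option autoImplicit false
universe u

namespace Cfsg.Agent.Lib.Helper89.TMCNTID

open Cfsg.Agent.Lib.Helper41.TMStmt
open Cfsg.Agent.Lib.Helper45.OMiStmt (M Aniso FxM NDegM StabM)
open Cfsg.Agent.Lib.Helper41.TMTwoStmt (TSubM PlusM FixTSM)

theorem main : FrFib.{u} → FrExt.{u} → CntId.{u} := by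
  intro hFib hExt F _ _ a₀ b₀ hab d m hm
  classical
  have hqpos : 0 < Fintype.card F := Fintype.card_pos
  have h0 : Nat.card (TFr d F a₀ b₀ 0) = 1 := by
    rw [Nat.card_eq_one_iff_unique]
    refine ⟨?_, ?_⟩
    · unfold TFr
      infer_instance
    · exact ⟨⟨fun a => a.elim0, linearIndependent_empty_type, fun a => a.elim0,
        fun a => a.elim0⟩⟩
  have hind : ∀ k, k ≤ d → Nat.card (TFr d F a₀ b₀ k) =
      ∏ j ∈ Finset.range k, (Fintype.card F ^ j *
        ((Fintype.card F ^ (d - j) + 1) * (Fintype.card F ^ (d - 1 - j) - 1))) := by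
    intro k
    induction k with
    | zero => intro _; simpa using h0
    | succ k ih =>
      intro hk
      rw [hExt F a₀ b₀ hab d k (by omega), ih (by omega), Finset.prod_range_succ]
  have h1 := hFib F a₀ b₀ hab d m
  rw [hind m hm] at h1
  have h2 : ∏ j ∈ Finset.range m, (Fintype.card F ^ m - Fintype.card F ^ j) =
      (∏ j ∈ Finset.range m, Fintype.card F ^ j) *
        ∏ j ∈ Finset.range m, (Fintype.card F ^ (m - j) - 1) := by
    rw [← Finset.prod_mul_distrib]
    apply Finset.prod_congr rfl
    intro j hj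
    have hj' : j < m := Finset.mem_range.mp hj
    rw [Nat.mul_sub, mul_one, ← pow_add]
    congr 2
    omega
  rw [h2, Finset.prod_mul_distrib] at h1
  have hpos : 0 < ∏ j ∈ Finset.range m, Fintype.card F ^ j :=
    Finset.prod_pos (fun j _ => pow_pos hqpos j)
  apply Nat.eq_of_mul_eq_mul_left hpos
  rw [h1]
  ring

end Cfsg.Agent.Lib.Helper89.TMCNTID
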