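import Mathlib
import Cfsg.Agent.Lib.Helper41.TMStmt
import Cfsg.Agent.Lib.Helper8.HypHYPSUB

/-!
# S5987 / TSIN (helper89; minus-form port of my S5973 piece): a nondegenerate subspace of
dimension `> 2 j` contains a totally singular `j`-space (minus-type form, all `q`).
-/

set_option autoImplicit false

namespace Cfsg.Agent.Lib.Helper89.TMTSIN

open Module QuadraticMap
open Cfsg.Agent.Lib.Helper44.QSpace Cfsg.Agent.Lib.Helper44.NegPairs Cfsg.Agent.Lib.Helper44.OEmb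
open Cfsg.Agent.Lib.Helper44.WittND Cfsg.Agent.Lib.Helper44.WittND2
open Cfsg.Agent.Lib.Helper41.TMStmt
open Cfsg.Agent.Lib.Helper45.OMiStmt (M Aniso FxM NDegM StabM)
open Cfsg.Agent.Lib.Helper41.TMTwoStmt (TSubM PlusM FixTSM)

universe u

theorem ndsub_of_ndeg_minus {F : Type u} [Field F] {d : ℕ} {a₀ b₀ : F}
    {W : Submodule F (M d → F)}
    (h : NDegM d F a₀ b₀ W) : NDsub (minusQ (d - 1) F a₀ b₀) W := by
  intro x hx hxy
  by_contra hx0
  obtain ⟨-, y, hy, hxy'⟩ := h x hx hx0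
  exact hxy' (hxy y hy)

theorem main : TsIn.{u} := by
  intro F _ _ a₀ b₀ _ d Y j hY hj
  classical
  have hY' : NDsub (minusQ (d - 1) F a₀ b₀) Y := ndsub_of_ndeg_minus hY
  have hfH : finrank F (Fin j ⊕ Fin j → F) = 2 * j := by
    rw [Module.finrank_fintype_fun_eq_card, Fintype.card_sum, Fintype.card_fin]
    ring
  obtain ⟨φ, hφ⟩ := exists_embedding j (Fin j ⊕ Fin j → F) (plusQ j F) Y (res (minusQ (d - 1) F a₀ b₀) Y) hfH
    (by rw [hfH]; exact hj) (sep_plusQ j) (sep_res_of_ndsub hY')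
  have hinj := Cfsg.Agent.Lib.Helper8.HypHYPSUB.isom_inj (sep_plusQ j) φ hφ
  refine ⟨LinearMap.range (Y.subtype ∘ₗ φ ∘ₗ Cfsg.Agent.Lib.Helper8.HypHYPSUB.inlMap j),
    ?_, ?_, ?_⟩
  · rintro _ ⟨a, rfl⟩
    exact (φ (Cfsg.Agent.Lib.Helper8.HypHYPSUB.inlMap j a)).2
  · rintro _ ⟨a, rfl⟩
    have h5 := hφ (Cfsg.Agent.Lib.Helper8.HypHYPSUB.inlMap j a)
    rw [res_apply, Cfsg.Agent.Lib.Helper8.HypHYPSUB.plusQ_inlMap] at h5
    exact h5
  · have hinj2 : Function.Injective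
        (Y.subtype ∘ₗ φ ∘ₗ Cfsg.Agent.Lib.Helper8.HypHYPSUB.inlMap j) := by
      rw [LinearMap.coe_comp, LinearMap.coe_comp]
      exact (Y.subtype_injective.comp hinj).comp
        (Cfsg.Agent.Lib.Helper8.HypHYPSUB.inlMap_inj j)
    rw [LinearMap.finrank_range_of_inj hinj2, Module.finrank_fintype_fun_eq_card,
      Fintype.card_fin]

end Cfsg.Agent.Lib.Helper89.TMTSIN
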