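import Cfsg.Agent.Lib.Helper4.UniStmt

/-!
`S4395` piece WIN: in a finite field `F` of `p ^ a` elements in which the multiplication by `lam`
has no proper non-zero invariant additive subgroup, the powers `lam ^ 0, …, lam ^ (a - 1)` span
`F` additively.
-/

set_option autoImplicit false

namespace Cfsg.Agent.Lib.Helper89.UniWIN

open Polynomial

theorem main : Cfsg.Agent.Lib.Helper4.UniStmt.WIN := by
  intro p _ F _ _ _ lam a hlam hcard hirr x
  let _ : Algebra (ZMod p) F := ZMod.algebra F p
  have : Fintype F := Fintype.ofFinite F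
  -- the image of the evaluation at `lam` is everything
  have hsurj : ∀ y : F, ∃ f : (ZMod p)[X], aeval lam f = y := by
    have hA := hirr ((aeval lam : (ZMod p)[X] →ₐ[ZMod p] F).range.toSubring.toAddSubgroup) (by
      rintro y ⟨f, rfl⟩
      exact ⟨X * f, by simp⟩)
    rcases hA with hA | hA
    · exfalso
      have h1 : (1 : F) ∈ (aeval lam : (ZMod p)[X] →ₐ[ZMod p] F).range.toSubring.toAddSubgroup :=
        ⟨1, by simp⟩
      rw [hA] at h1
      exact one_ne_zero ((AddSubgroup.mem_bot).mp h1)
    · intro y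
      have hy : y ∈ (aeval lam : (ZMod p)[X] →ₐ[ZMod p] F).range.toSubring.toAddSubgroup := by
        rw [hA]; trivial
      exact hy
  -- the dimension
  have hfin : Module.finrank (ZMod p) F = a := by
    have h1 : Fintype.card F = Fintype.card (ZMod p) ^ Module.finrank (ZMod p) F :=
      Module.card_eq_pow_finrank
    rw [ZMod.card, ← Nat.card_eq_fintype_card, hcard] at h1
    exact (Nat.pow_right_injective (Fact.out : p.Prime).two_le h1).symm
  have hint : IsIntegral (ZMod p) lam := IsIntegral.of_finite (ZMod p) lam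
  have hmonic := minpoly.monic hint
  have hdeg : (minpoly (ZMod p) lam).natDegree ≤ a := by
    rw [← hfin]; exact minpoly.natDegree_le lam
  obtain ⟨f, rfl⟩ := hsurj x
  have hg : aeval lam (f %ₘ minpoly (ZMod p) lam) = aeval lam f :=
    aeval_modByMonic_eq_self_of_root (minpoly.aeval (ZMod p) lam)
  have hgdeg : (f %ₘ minpoly (ZMod p) lam).natDegree < a :=
    lt_of_lt_of_le (natDegree_modByMonic_lt f hmonic (minpoly.ne_one (ZMod p) lam)) hdeg
  refine ⟨fun i => ((f %ₘ minpoly (ZMod p) lam).coeff i).val, ?_⟩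
  rw [← hg, aeval_eq_sum_range' hgdeg]
  refine Finset.sum_congr rfl fun i _ => ?_
  rw [← Nat.cast_smul_eq_nsmul (ZMod p), ZMod.natCast_zmod_val]

end Cfsg.Agent.Lib.Helper89.UniWIN
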